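import Cfsg.Agent.Lib.ThreeSizes.Basic

/-!
# The hypothesis: class sizes `1, m, m n`
-/

open Subgroup
open scoped commutatorElement

namespace Cfsg.Agent.ThreeSizes

set_option linter.unusedSectionVars false

variable {G : Type*} [Group G] [Finite G] {m n : ℕ}

local notation "cent" x:max => Subgroup.centralizer ({x} : Set _)

/-- The class sizes are exactly `1`, `m`, `m n` with `m, n > 1` coprime. -/
structure Hyp (G : Type*) [Group G] (m n : ℕ) : Prop where
  hm : 1 < m
  hn : 1 < n
  cop : m.Coprime n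
  size : ∀ g : G, (cent g).index = 1 ∨ (cent g).index = m ∨ (cent g).index = m * n
  exM : ∃ x : G, (cent x).index = m
  exMN : ∃ y : G, (cent y).index = m * n

theorem Hyp.hm0 (h : Hyp G m n) : 0 < m := by have := h.hm; omega

theorem Hyp.ne_mn (h : Hyp G m n) : m ≠ m * n := by
  have := h.hm; have := h.hn; nlinarith

theorem Hyp.noncentral_of_m (h : Hyp G m n) {x : G} (hx : (cent x).index = m) : x ∉ center G :=
  fun hz => by rw [index_eq_one_iff.2 hz] at hx; have := h.hm; omega

theorem Hyp.noncentral_of_mn (h : Hyp G m n) {x : G} (hx : (cent x).index = m * n) : x ∉ center G :=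
  fun hz => by rw [index_eq_one_iff.2 hz] at hx; have := h.hm; have := h.hn; nlinarith

theorem Hyp.cases (h : Hyp G m n) {g : G} (hg : g ∉ center G) :
    (cent g).index = m ∨ (cent g).index = m * n :=
  (h.size g).resolve_left fun e => hg (index_eq_one_iff.1 e)

theorem Hyp.m_dvd (h : Hyp G m n) {g : G} (hg : g ∉ center G) : m ∣ (cent g).index := by
  rcases h.cases hg with e | e <;> rw [e]
  exact dvd_mul_right _ _

theorem noncentral_of_le {a b : G} (hle : cent b ≤ cent a) (ha : a ∉ center G) : b ∉ center G :=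
  fun hb => ha (mem_center_of_cent.2 (top_le_iff.1 ((mem_center_of_cent.1 hb).ge.trans hle)))

theorem card_cent_eq {a b : G} (h : (cent a).index = (cent b).index) :
    Nat.card (cent a) = Nat.card (cent b) := by
  have e1 := (cent a).card_mul_index
  have e2 := (cent b).card_mul_index
  rw [h] at e1
  exact Nat.eq_of_mul_eq_mul_right (Nat.pos_of_ne_zero index_ne_zero_of_finite) (e1.trans e2.symm)

/-- A centraliser of index `m` is maximal. -/
theorem Hyp.eq_of_le_m (h : Hyp G m n) {a b : G} (hle : cent a ≤ cent b) (ha : (cent a).index = m)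
    (hb : b ∉ center G) : cent a = cent b := by
  have hb' : (cent b).index = m :=
    Nat.dvd_antisymm (ha ▸ index_dvd_of_le hle) (h.m_dvd hb)
  exact eq_of_le_of_card_ge hle (card_cent_eq (ha.trans hb'.symm)).ge

/-- A centraliser of index `m n` is minimal. -/
theorem Hyp.eq_of_le_mn (h : Hyp G m n) {a b : G} (hle : cent b ≤ cent a) (ha : (cent a).index = m * n) :
    cent b = cent a ∧ (cent b).index = m * n := by
  have hb : (cent b).index = m * n := by
    rcases h.cases (noncentral_of_le hle (h.noncentral_of_mn ha)) with e | e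
    · exfalso
      have hd : m * n ∣ m := by
        have := index_dvd_of_le hle
        rwa [ha, e] at this
      exact h.ne_mn (Nat.dvd_antisymm (dvd_mul_right _ _) hd)
    · exact e
  exact ⟨eq_of_le_of_card_ge hle (card_cent_eq (ha.trans hb.symm)).le, hb⟩

/-- An element of coprime order in a minimal centraliser has a larger centraliser. -/
theorem Hyp.cent_le_of_coprime (h : Hyp G m n) {v w : G} (hv : (cent v).index = m * n) (hw : w ∈ cent v)
    (hco : (orderOf v).Coprime (orderOf w)) : cent v ≤ cent w := by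
  have hc : Commute v w := (mem_cent.1 hw).symm
  have e := cent_mul hc hco
  rw [← (h.eq_of_le_mn (e.le.trans inf_le_left) hv).1, e]
  exact inf_le_right

theorem Hyp.cent_eq_of_coprime (h : Hyp G m n) {v w : G} (hv : (cent v).index = m * n)
    (hw' : (cent w).index = m * n) (hw : w ∈ cent v) (hco : (orderOf v).Coprime (orderOf w)) :
    cent v = cent w :=
  (h.eq_of_le_mn (h.cent_le_of_coprime hv hw hco) hw').1

theorem Hyp.not_dvd_n (h : Hyp G m n) {s : ℕ} (hs : s.Prime) (hsm : s ∣ m) : ¬ s ∣ n :=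
  fun hsn => hs.ne_one (Nat.eq_one_of_dvd_coprimes h.cop hsm hsn)

theorem Hyp.not_dvd_m (h : Hyp G m n) {q : ℕ} (hq : q.Prime) (hqn : q ∣ n) : ¬ q ∣ m :=
  fun hqm => hq.ne_one (Nat.eq_one_of_dvd_coprimes h.cop hqm hqn)

/-- For `s ∣ m` all non-central centralisers have Sylow `s`-subgroups of the same order. -/
theorem Hyp.part_const (h : Hyp G m n) {s : ℕ} (hs : s.Prime) (hsm : s ∣ m) {a b : G}
    (ha : a ∉ center G) (hb : b ∉ center G) : cp s (cent a) = cp s (cent b) := by
  have key : ∀ g : G, g ∉ center G → (cent g).index.factorization s = m.factorization s := by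
    intro g hg
    rcases h.cases hg with e | e <;> rw [e]
    rw [Nat.factorization_mul (by have := h.hm0; omega) (by have := h.hn; omega), Finsupp.add_apply,
      Nat.factorization_eq_zero_of_not_dvd (h.not_dvd_n hs hsm), add_zero]
  exact cp_eq_of_index ((key a ha).trans (key b hb).symm)

theorem part_const_of_eq (q : ℕ) {a b : G} (e : (cent a).index = (cent b).index) :
    cp q (cent a) = cp q (cent b) := cp_eq_of_index (by rw [e])

theorem exists_noncentral_of_dvd {q : ℕ} [hq : Fact q.Prime] {g : G} (hg : q ∣ (cent g).index) :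
    ∃ v : G, v ∉ center G ∧ IsElt q v := by
  obtain ⟨v, -, hv⟩ := exists_noncentral (q := q) (H := (⊤ : Subgroup G)) (by
    refine lt_of_le_of_ne (cp_mono le_top) fun e => ?_
    have h1 : cp q (cent g) = cp q (⊤ : Subgroup G) :=
      le_antisymm (cp_mono le_top) (e.ge.trans (cp_mono (center_le_cent g)))
    exact cp_eq_top_iff.1 h1 hg)
  exact ⟨v, hv⟩

theorem Hyp.part_lt (h : Hyp G m n) {s : ℕ} [hs : Fact s.Prime] (hsm : s ∣ m) {g : G}
    (hg : g ∉ center G) : cp s (center G) < cp s (cent g) := by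
  obtain ⟨x, hx⟩ := h.exM
  obtain ⟨v, hv, hvs⟩ := exists_noncentral_of_dvd (q := s) (g := x) (hx ▸ hsm)
  rw [h.part_const hs.out hsm hg hv]
  exact cp_center_lt hv hvs (center_le_cent v) (self_mem v)

theorem exists_conj_mem {q : ℕ} [Fact q.Prime] {U : Subgroup G}
    (hc : Nat.card U = cp q (⊤ : Subgroup G)) {R : Subgroup G} (hR : IsPGroup q R) :
    ∃ g : G, ∀ x ∈ R, g * x * g⁻¹ ∈ U := by
  rw [cp, Subgroup.card_top] at hc
  let S : Sylow q G := Sylow.ofCard U hc
  obtain ⟨T, hT⟩ := hR.exists_le_sylow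
  obtain ⟨g, hg⟩ := MulAction.exists_smul_eq G T S
  refine ⟨g, fun x hx => ?_⟩
  have h1 : g * x * g⁻¹ ∈ ((g • T : Sylow q G) : Subgroup G) := ⟨x, hT hx, rfl⟩
  rw [hg] at h1
  exact h1

/-- Elements of a prime dividing no class size are central. -/
theorem central_of_not_dvd {q : ℕ} [hq : Fact q.Prime] (hno : ∀ g : G, ¬ q ∣ (cent g).index) {v : G}
    (hv : IsElt q v) : v ∈ center G := by
  obtain ⟨P⟩ : Nonempty (Sylow q G) := inferInstance
  have htop : centralizer ((P : Subgroup G) : Set G) = ⊤ := ClassIndex.eq_top_of_conj_cover fun g => by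
    obtain ⟨U, hUg, -, hUc⟩ := exists_le_card_cp q (cent g)
    have hUc' : Nat.card U = cp q (⊤ : Subgroup G) := hUc.trans (cp_eq_top_iff.2 (hno g))
    obtain ⟨c, hc⟩ := exists_conj_mem hUc' P.2
    refine ⟨c, mem_centralizer_iff.2 fun x hx => ?_⟩
    have h1 := mem_cent.1 (hUg (hc x hx))
    calc x * (c⁻¹ * g * c) = c⁻¹ * (c * x * c⁻¹ * g) * c := by group
      _ = _ := by rw [h1]; group
  have hPZ : (P : Subgroup G) ≤ center G := fun x hx => mem_center_iff.2 fun g =>
    ((mem_centralizer_iff.1 (htop ▸ mem_top g : g ∈ centralizer ((P : Subgroup G) : Set G))) x hx).symm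
  obtain ⟨c, hc⟩ := exists_conj_mem (card_sylow P) (isPGroup_zpowers hv)
  have h1 := hPZ (hc v (mem_zpowers v))
  have := (inferInstance : (center G).Normal).conj_mem _ h1 c⁻¹
  simpa [mul_assoc] using this

theorem Hyp.noncentral_prime (h : Hyp G m n) {q : ℕ} [hq : Fact q.Prime] {v : G} (hv : v ∉ center G)
    (hvq : IsElt q v) : q ∣ m ∨ q ∣ n := by
  by_contra hc
  refine hv (central_of_not_dvd (fun g hg => ?_) hvq)
  rcases h.size g with e | e | e <;> rw [e] at hg
  · exact hq.out.not_dvd_one hg
  · exact hc (Or.inl hg)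
  · exact hc (hq.out.dvd_mul.1 hg)

/-- A class of size `m` is that of one of its primary parts. -/
theorem Hyp.primary_m (h : Hyp G m n) {x : G} (hx : (cent x).index = m) :
    ∃ r : ℕ, r.Prime ∧ ∃ x' : G, IsElt r x' ∧ x' ∉ center G ∧ x' ∈ zpowers x ∧ cent x = cent x' := by
  obtain ⟨r, hr, x', hx', hxz, hxe⟩ := exists_primary (h.noncentral_of_m hx)
  exact ⟨r, hr, x', hxe, hxz, hx', h.eq_of_le_m (cent_le_of_mem_zpowers hx') hx hxz⟩

theorem centralizer_subtype {H : Subgroup G} (y : H) : cent y = (cent (y : G)).subgroupOf H := by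
  ext a
  rw [mem_subgroupOf, mem_cent, mem_cent, Subtype.ext_iff]
  rfl

theorem Hyp.relIndex_cases (h : Hyp G m n) {z y w : G} (hz : (cent z).index = m)
    (hw : cent w = cent z ⊓ cent y) :
    ((cent y).subgroupOf (cent z)).index = 1 ∨ ((cent y).subgroupOf (cent z)).index = n := by
  have e : ((cent y).subgroupOf (cent z)).index * m = (cent w).index := by
    rw [hw, ← hz, inf_comm, ← Subgroup.relIndex_mul_index (inf_le_right : cent y ⊓ cent z ≤ cent z),
      Subgroup.inf_relIndex_right]
    rfl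
  have hnc : w ∉ center G := noncentral_of_le (hw.le.trans inf_le_left) (h.noncentral_of_m hz)
  rcases h.cases hnc with e' | e' <;> rw [e'] at e
  · exact Or.inl (Nat.eq_of_mul_eq_mul_right h.hm0 (by rw [e, one_mul]))
  · exact Or.inr (Nat.eq_of_mul_eq_mul_right h.hm0 (by rw [e, mul_comm]))

end Cfsg.Agent.ThreeSizes
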