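import Cfsg.Agent.EqLemmas
import Cfsg.Agent.Lib.ClassIndex.Basic
import Cfsg.Agent.Lib.ClassIndex.PxQ
import Cfsg.Agent.Lib.ClassIndex.TwoSizes
import Cfsg.Agent.Lib.ClassIndex.SylowTwoSizes
import Cfsg.Agent.Lib.Coprime.Factorization
import Cfsg.Agent.Lib.PLocal.Thompson
import Cfsg.Agent.Lib.PLocal.Action
import Cfsg.Agent.Lib.Transfer.Criteria
import Cfsg.Agent.Lib.PGroup.Basic
import Cfsg.Agent.Lib.Coprime.Generation
import Cfsg.Agent.Lib.Solvable.Maximal

/-!
# Class sizes `1, m, m n` with coprime `m, n`: common tools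

* `cp q H`: the order of a Sylow `q`-subgroup of `H`
* `zPart q Y`: the `q`-elements of the centre of `Y`
* `relIndex_eq_prime`: an elementary abelian fixed-point-free quotient has prime order
-/

open Subgroup
open scoped commutatorElement Pointwise

namespace Cfsg.Agent.ThreeSizes

set_option linter.unusedSectionVars false

variable {G : Type*} [Group G] [Finite G]

/-- centralizer of one element -/
local notation "cent" x:max => Subgroup.centralizer ({x} : Set _)

/-- an element of `q`-power order -/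
def IsElt (q : ℕ) (g : G) : Prop := ∃ k, orderOf g = q ^ k

theorem mem_cent {g x : G} : g ∈ cent x ↔ g * x = x * g := mem_centralizer_singleton_iff

theorem self_mem (x : G) : x ∈ cent x := mem_cent.2 rfl

theorem mem_cent_symm {g x : G} (h : g ∈ cent x) : x ∈ cent g := mem_cent.2 (mem_cent.1 h).symm

theorem center_le_cent (x : G) : center G ≤ cent x := TwoSizes.center_le x

theorem mem_center_of_cent {g : G} : g ∈ center G ↔ cent g = ⊤ := SylowTwoSizes.mem_center_iff_cent

theorem index_eq_one_iff {g : G} : (cent g).index = 1 ↔ g ∈ center G := by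
  rw [index_eq_one, mem_center_of_cent]

theorem cent_mul_central {x z : G} (hz : z ∈ center G) : cent (x * z) = cent x :=
  SylowTwoSizes.cent_mul_central hz

theorem cent_mul {a b : G} (hc : Commute a b) (hco : (orderOf a).Coprime (orderOf b)) :
    cent (a * b) = cent a ⊓ cent b := by
  refine le_antisymm (le_inf (TwoSizes.cent_mul_le hc hco) ?_) fun g hg => ?_
  · rw [hc.eq]; exact TwoSizes.cent_mul_le hc.symm hco.symm
  · exact mem_cent.2 (Commute.mul_right (mem_cent.1 hg.1) (mem_cent.1 hg.2)).eq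

theorem cent_conj (g x : G) : cent (g * x * g⁻¹) = (cent x).map (MulAut.conj g).toMonoidHom := by
  ext a
  rw [Subgroup.map_equiv_eq_comap_symm']
  simp only [Subgroup.mem_comap, mem_cent, MulEquiv.coe_toMonoidHom, MulAut.conj_symm_apply]
  constructor
  · intro h
    calc g⁻¹ * a * g * x = g⁻¹ * (a * (g * x * g⁻¹)) * g := by group
      _ = _ := by rw [h]; group
  · intro h
    calc a * (g * x * g⁻¹) = g * (g⁻¹ * a * g * x) * g⁻¹ := by group
      _ = _ := by rw [h]; group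

theorem index_conj (g x : G) : (cent (g * x * g⁻¹)).index = (cent x).index := by
  rw [cent_conj]
  exact Subgroup.index_map_of_bijective (MulAut.conj g).bijective _

theorem IsElt.conj {q : ℕ} {x : G} (h : IsElt q x) (g : G) : IsElt q (g * x * g⁻¹) := by
  obtain ⟨k, hk⟩ := h
  exact ⟨k, by rw [show g * x * g⁻¹ = MulAut.conj g x from rfl, MulEquiv.orderOf_eq, hk]⟩

theorem IsElt.coprime {a b : ℕ} (ha : a.Prime) (hb : b.Prime) (hne : a ≠ b) {x y : G} (hx : IsElt a x)
    (hy : IsElt b y) : (orderOf x).Coprime (orderOf y) := by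
  obtain ⟨i, hi⟩ := hx
  obtain ⟨j, hj⟩ := hy
  exact TwoSizes.coprime_of_pow ha hb hne hi hj

theorem IsElt.coprime_order {a : ℕ} (ha : a.Prime) {x : G} (hx : IsElt a x) {d : ℕ} (hd : ¬ a ∣ d) :
    (orderOf x).Coprime d := by
  obtain ⟨i, hi⟩ := hx
  rw [hi]
  exact Nat.Coprime.pow_left _ (ha.coprime_iff_not_dvd.2 hd)

theorem IsElt.not_dvd {a b : ℕ} (ha : a.Prime) (hb : b.Prime) (hne : a ≠ b) {x : G} (hx : IsElt a x) :
    ¬ b ∣ orderOf x := by
  obtain ⟨i, hi⟩ := hx
  rw [hi]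
  exact fun h => hne ((Nat.prime_dvd_prime_iff_eq hb ha).1 (hb.dvd_of_dvd_pow h)).symm

theorem isElt_of_mem {q : ℕ} [Fact q.Prime] {P : Subgroup G} (hP : IsPGroup q P) {x : G} (hx : x ∈ P) :
    IsElt q x := by
  obtain ⟨k, hk⟩ := IsPGroup.iff_orderOf.1 hP ⟨x, hx⟩
  exact ⟨k, by rwa [← Subgroup.orderOf_coe] at hk⟩

theorem isPGroup_zpowers {q : ℕ} [Fact q.Prime] {x : G} (hx : IsElt q x) : IsPGroup q (zpowers x) := by
  obtain ⟨k, hk⟩ := hx
  exact IsPGroup.of_card (by rw [Nat.card_zpowers, hk])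

/-- A central commutator of elements of coprime orders is trivial. -/
theorem commute_of_mod {q : ℕ} (hq : q.Prime) {u w : G} (hu : IsElt q u) (hw : ¬ q ∣ orderOf w)
    (h : ⁅w, u⁆ ∈ center G) : Commute u w :=
  haveI := Fact.mk hq
  SylowTwoSizes.commute_of_central_comm hu hw h

theorem exists_parts {r : ℕ} (hr : r.Prime) (g : G) : ∃ u w : G, g = u * w ∧ Commute u w ∧
    u ∈ zpowers g ∧ w ∈ zpowers g ∧ IsElt r u ∧ ¬ r ∣ orderOf w := by
  haveI := Fact.mk hr
  obtain ⟨u, w, h1, h2, ⟨i, hi⟩, ⟨j, hj⟩, h3, h4⟩ := SylowTwoSizes.exists_parts (r := r) g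
  exact ⟨u, w, h1, h2, hi ▸ pow_mem (mem_zpowers g) i, hj ▸ pow_mem (mem_zpowers g) j, h3, h4⟩

theorem exists_primary {x : G} (hx : x ∉ center G) :
    ∃ p : ℕ, p.Prime ∧ ∃ y ∈ zpowers x, y ∉ center G ∧ IsElt p y := by
  by_contra hno
  push Not at hno
  exact hx (Transfer.mem_of_forall_primePow fun q hq y hy hk => by
    by_contra hc
    exact hno q hq y hy hc hk)

theorem cent_le_of_mem_zpowers {a b : G} (h : b ∈ zpowers a) : cent a ≤ cent b := by
  obtain ⟨i, rfl⟩ := mem_zpowers_iff.1 h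
  exact fun g hg => mem_cent.2 ((show Commute g a from mem_cent.1 hg).zpow_right i).eq

/-! ### Orders of Sylow subgroups -/

/-- The order of a Sylow `q`-subgroup of `H`. -/
noncomputable def cp (q : ℕ) (H : Subgroup G) : ℕ := q ^ (Nat.card H).factorization q

theorem cp_mono {q : ℕ} [hq : Fact q.Prime] {H K : Subgroup G} (h : H ≤ K) : cp q H ≤ cp q K :=
  Nat.pow_le_pow_right hq.out.pos
    ((Nat.factorization_le_iff_dvd Nat.card_pos.ne' Nat.card_pos.ne').2 (card_dvd_of_le h) q)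

theorem card_le_cp {q : ℕ} [Fact q.Prime] {U H : Subgroup G} (hU : IsPGroup q U) (h : U ≤ H) :
    Nat.card U ≤ cp q H := Coprime.card_le_of_isPGroup hU h

theorem exists_le_card_cp (q : ℕ) [Fact q.Prime] (H : Subgroup G) :
    ∃ U ≤ H, IsPGroup q U ∧ Nat.card U = cp q H := by
  obtain ⟨S⟩ : Nonempty (Sylow q H) := inferInstance
  refine ⟨(S : Subgroup H).map H.subtype, map_subtype_le _, S.2.map _, ?_⟩
  rw [card_map_of_injective H.subtype_injective, S.card_eq_multiplicity, cp]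

theorem card_sylow {q : ℕ} [Fact q.Prime] (P : Sylow q G) : Nat.card P = cp q (⊤ : Subgroup G) := by
  rw [P.card_eq_multiplicity, cp, Subgroup.card_top]

theorem card_eq_cp {q : ℕ} [hq : Fact q.Prime] {H U : Subgroup G} (hU : IsPGroup q U)
    (h1 : cp q H ≤ Nat.card U) (h2 : U ≤ H) : Nat.card U = cp q H :=
  le_antisymm (card_le_cp hU h2) h1

theorem factorization_add (q : ℕ) (H : Subgroup G) :
    (Nat.card H).factorization q + H.index.factorization q = (Nat.card G).factorization q := by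
  rw [← H.card_mul_index, Nat.factorization_mul Nat.card_pos.ne' index_ne_zero_of_finite]
  rfl

theorem cp_eq_of_index {q : ℕ} {H K : Subgroup G} (h : H.index.factorization q = K.index.factorization q) :
    cp q H = cp q K := by
  have h1 := factorization_add q H
  have h2 := factorization_add q K
  unfold cp; congr 1; omega

theorem cp_eq_top_iff {q : ℕ} [hq : Fact q.Prime] {H : Subgroup G} :
    cp q H = cp q (⊤ : Subgroup G) ↔ ¬ q ∣ H.index := by
  have h1 := factorization_add q H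
  rw [cp, cp, Subgroup.card_top, (Nat.pow_right_injective hq.out.two_le).eq_iff,
    hq.out.dvd_iff_one_le_factorization index_ne_zero_of_finite]
  omega

theorem card_inf_normalised {q : ℕ} [hq : Fact q.Prime] (P : Sylow q G) {H : Subgroup G}
    (h : (P : Subgroup G) ≤ normalizer (H : Set G)) :
    Nat.card ↥((P : Subgroup G) ⊓ H) = cp q H := by
  refine le_antisymm (card_le_cp (P.2.to_le inf_le_left) inf_le_right) ?_
  have h1 : Nat.card ↥((P : Subgroup G) ⊔ H) * Nat.card ↥((P : Subgroup G) ⊓ H) =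
      Nat.card P * Nat.card H := by
    rw [sup_comm, inf_comm, PLocal.card_sup_mul_card_inf h, mul_comm]
  have h2 : (Nat.card ↥((P : Subgroup G) ⊔ H)).factorization q ≤ (Nat.card G).factorization q :=
    (Nat.factorization_le_iff_dvd Nat.card_pos.ne' Nat.card_pos.ne').2 (card_subgroup_dvd_card _) q
  obtain ⟨i, hi⟩ := IsPGroup.iff_card.1 (P.2.to_le (inf_le_left : (P : Subgroup G) ⊓ H ≤ P))
  have h3 := congrArg (fun a => a.factorization q) h1
  rw [Nat.factorization_mul Nat.card_pos.ne' Nat.card_pos.ne',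
    Nat.factorization_mul Nat.card_pos.ne' Nat.card_pos.ne', P.card_eq_multiplicity, hi] at h3
  simp only [Finsupp.add_apply, hq.out.factorization_pow, Finsupp.single_eq_same] at h3
  rw [hi]
  exact Nat.pow_le_pow_right hq.out.pos (by omega)

theorem cp_center_lt {q : ℕ} [hq : Fact q.Prime] {v : G} (hv : v ∉ center G) (hvq : IsElt q v)
    {H : Subgroup G} (hZ : center G ≤ H) (hvH : v ∈ H) : cp q (center G) < cp q H := by
  obtain ⟨U, hUZ, hUp, hUc⟩ := exists_le_card_cp q (center G)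
  have hn : zpowers v ≤ normalizer (U : Set G) :=
    (centralizer_le_normalizer _).trans' fun g _ => mem_centralizer_iff.2 fun u hu =>
      ((mem_center_iff.1 (hUZ hu)) g).symm
  have hlt : U < U ⊔ zpowers v :=
    lt_of_le_of_ne le_sup_left fun e => hv (hUZ (e.ge (mem_sup_right (mem_zpowers v))))
  have hp : IsPGroup q ↥(U ⊔ zpowers v) :=
    IsPGroup.to_sup_of_normal_left' hUp (isPGroup_zpowers hvq) hn
  rw [← hUc]
  refine lt_of_lt_of_le ?_ (card_le_cp hp (sup_le (hUZ.trans hZ) (zpowers_le.2 hvH)))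
  by_contra hge
  push Not at hge
  exact hlt.ne (eq_of_le_of_card_ge le_sup_left hge)

theorem exists_noncentral {q : ℕ} [Fact q.Prime] {H : Subgroup G} (h : cp q (center G) < cp q H) :
    ∃ v ∈ H, v ∉ center G ∧ IsElt q v := by
  obtain ⟨U, hUH, hUp, hUc⟩ := exists_le_card_cp q H
  by_contra! hno
  have : U ≤ center G := fun u hu => by
    by_contra hu'
    exact hno u (hUH hu) hu' (isElt_of_mem hUp hu)
  have := card_le_cp hUp this
  omega

/-- A non-central subgroup normalised by a `q`-group contains a `Z₂`-like element. -/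
theorem exists_z2 {q : ℕ} [hq : Fact q.Prime] {P A : Subgroup G} (hP : IsPGroup q P) (hAP : A ≤ P)
    (hnorm : P ≤ normalizer (A : Set G)) (hA : ¬ A ≤ center G) :
    ∃ v ∈ A, v ∉ center G ∧ v ^ q ∈ center G ∧ ∀ g ∈ P, ⁅g, v⁆ ∈ center G := by
  let f := QuotientGroup.mk' (center G)
  let Pb := P.map f
  let Ab : Subgroup Pb := (A.map f).subgroupOf Pb
  haveI : Ab.Normal := Subgroup.normal_subgroupOf_of_le_normalizer (by
    rintro _ ⟨g, hg, rfl⟩
    refine Coprime.mem_normalizer_of_forall ?_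
    rintro _ ⟨a, ha, rfl⟩
    exact ⟨_, (mem_normalizer_iff.1 (hnorm hg) a).1 ha, by simp⟩)
  have hPb : IsPGroup q Pb := hP.map f
  have hAb : Ab ≠ ⊥ := by
    intro h0
    obtain ⟨a, ha, haz⟩ := SetLike.not_le_iff_exists.1 hA
    have h1 : (⟨f a, mem_map_of_mem f (hAP ha)⟩ : Pb) ∈ Ab := mem_subgroupOf.2 (mem_map_of_mem f ha)
    rw [h0, mem_bot, Subtype.ext_iff] at h1
    exact haz ((QuotientGroup.eq_one_iff _).1 h1)
  obtain ⟨w, hw, hwne⟩ := (Subgroup.bot_or_exists_ne_one (Ab ⊓ center Pb)).resolve_left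
    (PGroup.inf_center_ne_bot hPb hAb)
  obtain ⟨k, hk⟩ := IsPGroup.iff_orderOf.1 hPb w
  have hk0 : k ≠ 0 := by
    rintro rfl
    exact hwne (orderOf_eq_one_iff.1 (by simpa using hk))
  set y := w ^ q ^ (k - 1) with hy
  have hyord : orderOf y = q := by
    rw [hy, orderOf_pow_of_dvd (pow_ne_zero _ hq.out.ne_zero)
      (hk ▸ pow_dvd_pow q (Nat.sub_le k 1)), hk, Nat.pow_div (Nat.sub_le k 1) hq.out.pos,
      Nat.sub_sub_self (Nat.one_le_iff_ne_zero.2 hk0), pow_one]
  have hyA : y ∈ Ab ⊓ center Pb := pow_mem hw _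
  obtain ⟨v, hvA, hvy⟩ := mem_subgroupOf.1 hyA.1
  refine ⟨v, hvA, fun hv => ?_, ?_, fun g hg => ?_⟩
  · have : y = 1 := Subtype.ext (hvy.symm.trans ((QuotientGroup.eq_one_iff _).2 hv))
    rw [this, orderOf_one] at hyord
    exact hq.out.ne_one hyord.symm
  · refine (QuotientGroup.eq_one_iff _).1 ?_
    show f (v ^ q) = 1
    rw [map_pow, hvy, ← Subgroup.coe_pow, ← hyord, pow_orderOf_eq_one]; rfl
  · refine (QuotientGroup.eq_one_iff _).1 ?_
    show f ⁅g, v⁆ = 1
    rw [map_commutatorElement, commutatorElement_eq_one_iff_mul_comm, hvy]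
    exact congrArg Subtype.val (mem_center_iff.1 hyA.2 ⟨f g, mem_map_of_mem f hg⟩)

theorem cent_conj_of_mod {g v : G} (h : ⁅g, v⁆ ∈ center G) : cent (g * v * g⁻¹) = cent v := by
  have e : g * v * g⁻¹ = v * ⁅g, v⁆ := by
    rw [mem_center_iff.1 h v, commutatorElement_def, inv_mul_cancel_right]
  rw [e, cent_mul_central h]

theorem normalizer_of_mod {g v : G} (h : ⁅g, v⁆ ∈ center G) :
    g ∈ normalizer ((cent v : Subgroup G) : Set G) := by
  rw [PLocal.mem_normalizer_iff_map_eq, ← cent_conj, cent_conj_of_mod h]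

theorem normalizer_of_fix {g : G} {C : Subgroup G} {v : G} (hC : cent v = C)
    (hv : cent (g * v * g⁻¹) = C) : g ∈ normalizer (C : Set G) := by
  rw [PLocal.mem_normalizer_iff_map_eq]
  conv_lhs => rw [← hC]
  rw [← cent_conj, hv]

/-! ### The central `q`-part -/

/-- The `q`-elements in the centre of `Y`. -/
def zPart (q : ℕ) [Fact q.Prime] (Y : Subgroup G) : Subgroup G where
  carrier := {t | t ∈ Y ∧ t ∈ centralizer (Y : Set G) ∧ ∃ k : ℕ, t ^ q ^ k = 1}
  one_mem' := ⟨one_mem _, one_mem _, 0, by simp⟩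
  mul_mem' := by
    rintro a b ⟨ha, ha', i, hi⟩ ⟨hb, hb', j, hj⟩
    refine ⟨mul_mem ha hb, mul_mem ha' hb', i + j, ?_⟩
    have hc : Commute a b := (mem_centralizer_iff.1 ha' b hb).symm
    rw [hc.mul_pow, pow_add, pow_mul, hi, one_pow, one_mul, mul_comm, pow_mul, hj, one_pow]
  inv_mem' := by
    rintro a ⟨ha, ha', i, hi⟩
    exact ⟨inv_mem ha, inv_mem ha', i, by rw [inv_pow, hi, inv_one]⟩

theorem IsElt.pow_eq_one {q : ℕ} {x : G} (h : IsElt q x) : ∃ k : ℕ, x ^ q ^ k = 1 := by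
  obtain ⟨k, hk⟩ := h
  exact ⟨k, hk ▸ pow_orderOf_eq_one x⟩

theorem mem_zPart {q : ℕ} [hq : Fact q.Prime] {Y : Subgroup G} {t : G} :
    t ∈ zPart q Y ↔ t ∈ Y ∧ t ∈ centralizer (Y : Set G) ∧ IsElt q t := by
  refine ⟨fun ⟨h1, h2, k, hk⟩ => ⟨h1, h2, ?_⟩, fun ⟨h1, h2, h3⟩ => ⟨h1, h2, h3.pow_eq_one⟩⟩
  obtain ⟨i, -, hi⟩ := (Nat.dvd_prime_pow hq.out).1 (orderOf_dvd_of_pow_eq_one hk)
  exact ⟨i, hi⟩

theorem isMulCommutative_zPart (q : ℕ) [Fact q.Prime] (Y : Subgroup G) :
    IsMulCommutative (zPart q Y) :=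
  ⟨⟨fun a b => Subtype.ext (mem_centralizer_iff.1 b.2.2.1 a a.2.1)⟩⟩

theorem zPart_normalizer (q : ℕ) [Fact q.Prime] {Y P : Subgroup G} (h : P ≤ normalizer (Y : Set G)) :
    P ≤ normalizer (zPart q Y : Set G) := fun g hg => by
  refine Coprime.mem_normalizer_of_forall fun t ht => ⟨(mem_normalizer_iff.1 (h hg) t).1 ht.1,
    (mem_normalizer_iff.1 (PLocal.normalizer_le_normalizer_centralizer _ (h hg)) t).1 ht.2.1, ?_⟩
  obtain ⟨k, hk⟩ := ht.2.2
  exact ⟨k, by rw [conj_pow, hk, mul_one, mul_inv_cancel]⟩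

/-! ### The fixed-point-free quotient -/

open scoped IsMulCommutative in
/-- An elementary abelian quotient `P / C_P(v)` acting without fixed points on `T` mod centre
has order `s`. -/
theorem relIndex_eq_prime {s : ℕ} [hs : Fact s.Prime] {P T : Subgroup G} (hP : IsPGroup s P)
    [IsMulCommutative T] {v : G} (hvs : v ^ s ∈ center G) (hcomm : ∀ g ∈ P, ⁅g, v⁆ ∈ center G)
    (hPv : ¬ P ≤ cent v) (hnorm : P ≤ normalizer (T : Set G))
    (hST : ∀ g ∈ P ⊓ cent v, ∀ t ∈ T, Commute g t)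
    (hTs : ∀ t ∈ T, ¬ s ∣ orderOf t)
    (hfpf : ∀ g ∈ P, g ∉ cent v → ∀ t ∈ T, Commute g t → t ∈ center G)
    (hT : ¬ T ≤ center G) :
    Nat.card P = s * Nat.card ↥(P ⊓ cent v) := by
  set S := P ⊓ cent v with hS
  let φ : P →* center G := MonoidHom.mk' (fun g => ⟨⁅(g : G), v⁆, hcomm g g.2⟩) fun a b => Subtype.ext (by
    show ⁅(a : G) * b, v⁆ = ⁅(a : G), v⁆ * ⁅(b : G), v⁆
    rw [commutatorElement_mul_left_eq_conj_mul, mem_center_iff.1 (hcomm b b.2) (a : G),
      mul_inv_cancel_right]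
    exact (mem_center_iff.1 (hcomm b b.2) _).symm)
  have hker : φ.ker = S.subgroupOf P := by
    ext g
    rw [MonoidHom.mem_ker, mem_subgroupOf, mem_inf, mem_cent, ← commutatorElement_eq_one_iff_mul_comm]
    exact ⟨fun h => ⟨g.2, congrArg Subtype.val h⟩, fun h => Subtype.ext h.2⟩
  have hpow : ∀ g : P, φ g ^ s = 1 := fun g => by
    obtain ⟨g, hg⟩ := g
    refine Subtype.ext ?_
    show ⁅g, v⁆ ^ s = 1
    have key : ∀ k : ℕ, g * v ^ k * g⁻¹ = ⁅g, v⁆ ^ k * v ^ k := fun k => by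
      rw [← conj_pow, show g * v * g⁻¹ = ⁅g, v⁆ * v by rw [commutatorElement_def, inv_mul_cancel_right],
        (show Commute ⁅g, v⁆ v from (mem_center_iff.1 (hcomm g hg) v).symm).mul_pow]
    have h1 := key s
    rw [mem_center_iff.1 hvs g, mul_inv_cancel_right, eq_comm, mul_eq_right] at h1
    exact h1
  have hmemS : ∀ {g : G}, g ∈ P → (g ^ s ∈ S) := fun {g} hg => by
    have : (⟨g, hg⟩ : P) ^ s ∈ φ.ker := by rw [MonoidHom.mem_ker, map_pow, hpow]
    rw [hker] at this
    exact this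
  have hcS : ∀ {a b : G}, a ∈ P → b ∈ P → ⁅a, b⁆ ∈ S := fun {a b} ha hb => by
    have : ⁅(⟨a, ha⟩ : P), ⟨b, hb⟩⁆ ∈ φ.ker := by
      rw [MonoidHom.mem_ker, map_commutatorElement, commutatorElement_eq_one_iff_mul_comm]
      exact mul_comm' _ _
    rw [hker] at this
    exact this
  -- some element generates the quotient
  obtain ⟨a, ha, hav⟩ := SetLike.not_le_iff_exists.1 hPv
  have hle : P ≤ S ⊔ zpowers a := by
    intro b hb
    by_contra hbn
    let cj : ∀ g : G, g ∈ P → MulAut T := fun g hg => (T : Subgroup G).normalizerMonoidHom ⟨g, hnorm hg⟩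
    have hcj : ∀ {g h : G} (hg : g ∈ P) (hh : h ∈ P), cj (g * h) (P.mul_mem hg hh) = cj g hg * cj h hh :=
      fun hg hh => ((T : Subgroup G).normalizerMonoidHom).map_mul ⟨_, hnorm hg⟩ ⟨_, hnorm hh⟩
    have hcjpow : ∀ {g : G} (hg : g ∈ P) (k : ℕ), cj (g ^ k) (P.pow_mem hg k) = cj g hg ^ k :=
      fun hg k => ((T : Subgroup G).normalizerMonoidHom).map_pow ⟨_, hnorm hg⟩ k
    have hone : ∀ {g : G} (hg : g ∈ S), cj g hg.1 = 1 := fun {g} hg => MulEquiv.ext fun t => Subtype.ext (by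
      show g * (t : G) * g⁻¹ = t
      rw [(hST g hg t t.2).eq, mul_inv_cancel_right])
    have hst : Commute (cj a ha) (cj b hb) := by
      have h1 := hone (hcS ha hb)
      have h2 : cj ⁅a, b⁆ (hcS ha hb).1 = ⁅cj a ha, cj b hb⁆ :=
        map_commutatorElement ((T : Subgroup G).normalizerMonoidHom) ⟨a, hnorm ha⟩ ⟨b, hnorm hb⟩
      rw [h1, eq_comm, commutatorElement_eq_one_iff_mul_comm] at h2
      exact h2
    have hW : ∀ i j : ℕ, ¬(s ∣ i ∧ s ∣ j) → ∀ t : T, ((cj a ha) ^ i * (cj b hb) ^ j) t = t →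
        t ∈ (center G).subgroupOf T := by
      intro i j hij t ht
      rw [← hcjpow ha i, ← hcjpow hb j, ← hcj (P.pow_mem ha i) (P.pow_mem hb j)] at ht
      refine hfpf _ (P.mul_mem (P.pow_mem ha i) (P.pow_mem hb j)) ?_ t t.2 ?_
      · intro hmem
        have hSm : a ^ i * b ^ j ∈ S := ⟨P.mul_mem (P.pow_mem ha i) (P.pow_mem hb j), hmem⟩
        have hbj : b ^ j ∈ S ⊔ zpowers a := by
          have h3 := (S ⊔ zpowers a).mul_mem
            ((S ⊔ zpowers a).inv_mem (mem_sup_right (pow_mem (mem_zpowers a) i))) (mem_sup_left hSm)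
          rwa [inv_mul_cancel_left] at h3
        by_cases hj : s ∣ j
        · obtain ⟨l, rfl⟩ := hj
          have hai : a ^ i ∈ S := by
            have hb' : (b ^ (s * l))⁻¹ ∈ S := S.inv_mem (by rw [pow_mul]; exact S.pow_mem (hmemS hb) l)
            simpa using S.mul_mem hSm hb'
          have hi : ¬ s ∣ i := fun h => hij ⟨h, dvd_mul_right _ _⟩
          refine hav ?_
          refine (Coprime.mem_of_pow_mem (H := S) (n := i) ?_ hai).2
          exact (IsElt.coprime_order hs.out (isElt_of_mem hP ha) hi)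
        · exact hbn (Coprime.mem_of_pow_mem (H := S ⊔ zpowers a) (n := j)
            (IsElt.coprime_order hs.out (isElt_of_mem hP hb) hj) hbj)
      · have h4 := congrArg Subtype.val ht
        exact mul_inv_eq_iff_eq_mul.1 h4
    refine hT fun t ht => ?_
    have hpw : ∀ {g : G} (hg : g ∈ P), cj g hg ^ s = 1 := fun hg => by rw [← hcjpow hg, hone (hmemS hg)]
    have h5 : (⟨t, ht⟩ : T) ^ s ∈ (center G).subgroupOf T :=
      Coprime.pow_mem_of_pair_aut _ _ hst hs.out (hpw ha) (hpw hb) _ hW _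
    exact Coprime.mem_of_pow_mem (H := center G) (n := s)
      ((hs.out.coprime_iff_not_dvd.2 (hTs t ht)).symm) h5
  -- count
  haveI hSn : (S.subgroupOf P).Normal := hker ▸ inferInstance
  have hPS : Nat.card ↥(P ⊓ cent v) * (S.subgroupOf P).index = Nat.card P := by
    rw [← (S.subgroupOf P).card_mul_index, Nat.card_congr (subgroupOfEquivOfLe (inf_le_left : S ≤ P)).toEquiv]
  have hgen : ∀ x : P ⧸ S.subgroupOf P, x ∈ zpowers ((⟨a, ha⟩ : P) : P ⧸ S.subgroupOf P) := by
    intro x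
    induction x using QuotientGroup.induction_on with
    | H b =>
      have hmap : (⊤ : Subgroup P) = (S.subgroupOf P) ⊔ zpowers (⟨a, ha⟩ : P) := by
        refine (top_le_iff.1 fun c _ => ?_).symm
        have h1 : (c : G) ∈ S ⊔ zpowers a := hle c.2
        have h2 : (S ⊔ zpowers a) = ((S.subgroupOf P) ⊔ zpowers (⟨a, ha⟩ : P)).map P.subtype := by
          rw [Subgroup.map_sup, Subgroup.map_subgroupOf_eq_of_le inf_le_left, MonoidHom.map_zpowers]; rfl
        rw [h2] at h1
        exact (mem_map_iff_mem P.subtype_injective).1 h1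
      have hb : b ∈ (S.subgroupOf P) ⊔ zpowers (⟨a, ha⟩ : P) := hmap ▸ mem_top b
      have h3 := mem_map_of_mem (QuotientGroup.mk' (S.subgroupOf P)) hb
      rwa [Subgroup.map_sup, (Subgroup.map_eq_bot_iff _).2 (QuotientGroup.ker_mk' _).ge, bot_sup_eq,
        MonoidHom.map_zpowers] at h3
  have hidx : (S.subgroupOf P).index = s := by
    have h1 : orderOf ((⟨a, ha⟩ : P) : P ⧸ S.subgroupOf P) = s := by
      refine orderOf_eq_prime ?_ fun h => hav ?_
      · rw [← QuotientGroup.mk_pow]; exact (QuotientGroup.eq_one_iff _).2 (hmemS ha)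
      · exact ((QuotientGroup.eq_one_iff _).1 h).2
    rw [Subgroup.index_eq_card, ← orderOf_eq_card_of_forall_mem_zpowers hgen, h1]
  rw [← hPS, hidx, mul_comm]

end Cfsg.Agent.ThreeSizes
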