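import Cfsg.Agent.Lib.ThreeSizes.Hyp
import Cfsg.Agent.Lib.Solvable.Maximal

/-!
# All primary elements for primes dividing `m` have class size `m n`: the core
-/

open Subgroup
open scoped commutatorElement

namespace Cfsg.Agent.ThreeSizes

set_option linter.unusedSectionVars false

variable {G : Type*} [Group G] [Finite G] {m n : ℕ}

local notation "cent" x:max => Subgroup.centralizer ({x} : Set _)

theorem card_sylow_le_normalizer {s : ℕ} [hs : Fact s.Prime] {U : Subgroup G} (hU : IsPGroup s U)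
    (hc : cp s (⊤ : Subgroup G) = s * Nat.card U) :
    ∃ P : Subgroup G, IsPGroup s P ∧ Nat.card P = cp s (⊤ : Subgroup G) ∧ U ≤ P ∧
      P ≤ normalizer (U : Set G) := by
  obtain ⟨P, hP⟩ := hU.exists_le_sylow
  refine ⟨P, P.2, card_sylow P, hP, ?_⟩
  haveI : (U.subgroupOf (P : Subgroup G)).Normal := by
    refine Subgroup.normal_of_index_eq_minFac_card ?_
    have h1 := (U.subgroupOf (P : Subgroup G)).card_mul_index
    rw [Nat.card_congr (subgroupOfEquivOfLe hP).toEquiv, card_sylow P, hc, mul_comm s] at h1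
    rw [Nat.eq_of_mul_eq_mul_left Nat.card_pos h1]
    obtain ⟨k, hk⟩ := IsPGroup.iff_card.1 P.2
    rw [hk, Nat.Prime.pow_minFac hs.out]
    rintro rfl
    rw [pow_zero] at hk
    have h2 := card_sylow P
    rw [hk, hc] at h2
    exact hs.out.ne_one (Nat.eq_one_of_mul_eq_one_right h2.symm)
  exact Subgroup.le_normalizer_of_normal_subgroupOf hP

/-- The elements of coprime order in a minimal centralizer are central in it. -/
theorem Hyp.mem_zPart' (h : Hyp G m n) {q : ℕ} [hq : Fact q.Prime] {v : G}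
    (hv : (cent v).index = m * n) (hvq : ¬ q ∣ orderOf v) {t : G}
    (ht : t ∈ cent v) (htq : IsElt q t) : t ∈ zPart q (cent v) :=
  mem_zPart.2 ⟨ht, mem_centralizer_iff.2 fun _ hg => mem_cent.1
    (h.cent_le_of_coprime hv ht (IsElt.coprime_order hq.out htq hvq).symm hg), htq⟩

/-- The order of a Sylow subgroup, from a fixed-point-free action. -/
theorem Hyp.card_eq_mul (h : Hyp G m n) {s b : ℕ} [hs : Fact s.Prime] [hb : Fact b.Prime] (hbs : b ≠ s)
    {P : Subgroup G} (hP : IsPGroup s P) (hPc : Nat.card P = cp s (⊤ : Subgroup G)) {v : G}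
    (hvP : v ∈ P) (hvs : v ^ s ∈ center G) (hcomm : ∀ g ∈ P, ⁅g, v⁆ ∈ center G)
    (hv : (cent v).index = m * n) (hsmn : s ∣ m * n)
    (hT : cp b (center G) < cp b (cent v))
    (hconst : ∀ t : G, IsElt b t → t ∉ center G → t ∈ cent v → cp s (cent t) ≤ cp s (cent v)) :
    cp s (⊤ : Subgroup G) = s * cp s (cent v) := by
  have hPn : P ≤ normalizer ((cent v : Subgroup G) : Set G) := fun g hg => normalizer_of_mod (hcomm g hg)
  have hvb : ¬ b ∣ orderOf v := IsElt.not_dvd hs.out hb.out hbs.symm (isElt_of_mem hP hvP)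
  let S : Sylow s G := Sylow.ofCard P (by rw [hPc, cp, Subgroup.card_top])
  have hS : Nat.card ↥(P ⊓ cent v) = cp s (cent v) := card_inf_normalised S hPn
  haveI := isMulCommutative_zPart b (cent v)
  have hnot : ¬ P ≤ cent v := fun hle =>
    S.not_dvd_index ((hv ▸ hsmn : s ∣ (cent v).index).trans (index_dvd_of_le hle))
  rw [← hPc, ← hS]
  refine relIndex_eq_prime hP (T := zPart b (cent v)) hvs hcomm hnot (zPart_normalizer b hPn)
    (fun g hg t ht => mem_centralizer_iff.1 (mem_zPart.1 ht).2.1 g hg.2) (fun t ht => ?_) ?_ ?_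
  · exact IsElt.not_dvd hb.out hs.out hbs (mem_zPart.1 ht).2.2
  · intro g hg hgv t ht hgt
    by_contra htz
    have ht' := mem_zPart.1 ht
    have hle : (P ⊓ cent v) ⊔ zpowers g ≤ cent t := by
      refine sup_le (fun a ha => mem_cent.2 (mem_centralizer_iff.1 ht'.2.1 a ha.2)) (zpowers_le.2 ?_)
      exact mem_cent.2 hgt.eq
    have hp : IsPGroup s ↥((P ⊓ cent v) ⊔ zpowers g) :=
      hP.to_le (sup_le inf_le_left (zpowers_le.2 hg))
    have h1 := (card_le_cp hp hle).trans (hconst t ht'.2.2 htz ht'.1)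
    rw [← hS] at h1
    have h2 := eq_of_le_of_card_ge (le_sup_left : P ⊓ cent v ≤ (P ⊓ cent v) ⊔ zpowers g) h1
    exact hgv (h2.ge (mem_sup_right (mem_zpowers g))).2
  · intro hle
    obtain ⟨t, htv, htz, htb⟩ := exists_noncentral hT
    exact htz (hle (h.mem_zPart' hv hvb htv htb))

/-- All primary elements for primes dividing `m` have class size `m n`. -/
def AllMN (G : Type*) [Group G] (m n : ℕ) : Prop :=
  ∀ s : ℕ, s.Prime → s ∣ m → ∀ u : G, IsElt s u → u ∉ center G → (cent u).index = m * n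

theorem exists_z2_sylow {s : ℕ} [Fact s.Prime] (h : Hyp G m n) {g : G} (hg : s ∣ (cent g).index)
    (P : Sylow s G) :
    ∃ v ∈ (P : Subgroup G), v ∉ center G ∧ v ^ s ∈ center G ∧ ∀ a ∈ (P : Subgroup G), ⁅a, v⁆ ∈ center G := by
  refine exists_z2 P.2 le_rfl le_normalizer fun hle => ?_
  obtain ⟨v₀, hv₀z, hv₀⟩ := exists_noncentral_of_dvd hg
  obtain ⟨c, hc⟩ := exists_conj_mem (card_sylow P) (isPGroup_zpowers hv₀)
  exact hv₀z (SylowTwoSizes.conj_mem_center.1 (hle (hc v₀ (mem_zpowers v₀))))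

theorem cent_le_core {x w : G} (h : Hyp G m n) {r : ℕ} (hr : r.Prime) (hx : IsElt r x)
    (hw : w ∈ (cent x).normalCore) (hwi : (cent w).index = m * n) (hwr : ¬ r ∣ orderOf w) :
    cent w ≤ (cent x).normalCore := by
  intro a ha b
  have h1 : b * w * b⁻¹ ∈ cent x := hw b
  have h2 : b⁻¹ * x * b ∈ cent w := by
    rw [mem_cent]
    calc b⁻¹ * x * b * w = b⁻¹ * (x * (b * w * b⁻¹)) * b := by group
      _ = _ := by rw [← mem_cent.1 h1]; group
  have hco : (orderOf w).Coprime (orderOf (b⁻¹ * x * b)) := by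
    have e := hx.conj b⁻¹
    rw [inv_inv] at e
    exact (IsElt.coprime_order hr e hwr).symm
  have h3 := mem_cent.1 (h.cent_le_of_coprime hwi h2 hco ha)
  rw [mem_cent]
  calc b * a * b⁻¹ * x = b * (a * (b⁻¹ * x * b)) * b⁻¹ := by group
    _ = _ := by rw [h3]; group

/-- A large intersection with the core forces small centralizers. -/
theorem cp_eq_mul_center {x : G} (h : Hyp G m n) {r b : ℕ} (hr : r.Prime) [hb : Fact b.Prime] (hbr : b ≠ r)
    (hx : IsElt r x) (hall : ∀ u : G, IsElt b u → u ∉ center G → (cent u).index = m * n)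
    {g : G} (hg : IsElt b g) (hgW : g ∉ (cent x).normalCore)
    (hQ : cp b (⊤ : Subgroup G) ≤ b * cp b (cent g))
    (hW : cp b (cent g) ≤ cp b (cent x).normalCore) :
    cp b (cent g) = b * cp b (center G) := by
  set W := (cent x).normalCore with hWdef
  have hgz : g ∉ center G := fun hz => hgW fun c => center_le_cent x
    ((inferInstance : (center G).Normal).conj_mem g hz c)
  obtain ⟨U, hUg, hUp, hUc⟩ := exists_le_card_cp b (cent g)
  obtain ⟨Q, hUQ⟩ := hUp.exists_le_sylow
  have hQW : (Q : Subgroup G) ≤ normalizer (W : Set G) := by rw [normalizer_eq_top]; exact le_top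
  have hUW : U ⊓ W ≤ center G := by
    intro w hw
    by_contra hwz
    have hwb := isElt_of_mem hUp hw.1
    exact hgW (cent_le_core h hr hx hw.2 (hall w hwb hwz) (IsElt.not_dvd hb.out hr hbr hwb)
      (mem_cent_symm (hUg hw.1)))
  have h1 := PLocal.card_mul_card_le U ((Q : Subgroup G) ⊓ W)
  rw [hUc, card_inf_normalised Q hQW] at h1
  have h2 : Nat.card ↥(U ⊔ (Q : Subgroup G) ⊓ W) ≤ b * cp b (cent g) := by
    refine le_trans ?_ hQ
    rw [← card_sylow Q]
    exact card_le_of_le (sup_le hUQ inf_le_left)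
  have h3 : Nat.card ↥(U ⊓ ((Q : Subgroup G) ⊓ W)) ≤ cp b (center G) :=
    card_le_cp (hUp.to_le inf_le_left) ((inf_le_inf_left _ inf_le_right).trans hUW)
  have h4 : cp b (cent g) * cp b (cent g) ≤ cp b (cent g) * (b * cp b (center G)) := by
    calc cp b (cent g) * cp b (cent g) ≤ cp b (cent g) * cp b W := Nat.mul_le_mul_left _ hW
      _ ≤ _ := h1
      _ ≤ b * cp b (cent g) * cp b (center G) := Nat.mul_le_mul h2 h3
      _ = _ := by ring
  have h5 := Nat.le_of_mul_le_mul_left h4 (Nat.pow_pos hb.out.pos)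
  have h6 := cp_center_lt hgz hg (center_le_cent g) (self_mem g)
  simp only [cp] at h5 h6 ⊢
  rw [← pow_succ'] at h5 ⊢
  congr 1
  have := (Nat.pow_le_pow_iff_right hb.out.one_lt).1 h5
  have := (Nat.pow_lt_pow_iff_right hb.out.one_lt).1 h6
  omega

/-- The configuration: a Sylow `s`-subgroup `P`, an element `v ∈ P` with centralizer in the core. -/
structure Core (G : Type*) [Group G] (m n s r : ℕ) (x v : G) (P : Subgroup G) : Prop where
  hyp : Hyp G m n
  all : AllMN G m n
  hrp : r.Prime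
  hrn : r ∣ n
  hsp : s.Prime
  hsm : s ∣ m
  hxr : IsElt r x
  hxm : (cent x).index = m
  hP : IsPGroup s P
  hPc : Nat.card P = cp s (⊤ : Subgroup G)
  hPmul : cp s (⊤ : Subgroup G) = s * cp s (cent v)
  vP : v ∈ P
  vz : v ∉ center G
  hcomm : ∀ g ∈ P, ⁅g, v⁆ ∈ center G
  hYW : cent v ≤ (cent x).normalCore
  hW : cp s (cent x).normalCore = cp s (cent v)
  hsmall : ∀ t : ℕ, t.Prime → t ∣ m → cp t (cent v) = t * cp t (center G)

theorem Hyp.exists_core (h : Hyp G m n) (hB : AllMN G m n) :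
    ∃ (s r : ℕ) (x v : G) (P : Subgroup G), Core G m n s r x v P := by
  obtain ⟨x₀, hx₀⟩ := h.exM
  obtain ⟨r, hr, x, hxr, hxz, -, hxx⟩ := h.primary_m hx₀
  haveI := Fact.mk hr
  have hxm : (cent x).index = m := hxx ▸ hx₀
  have hrm : ¬ r ∣ m := fun hd => h.ne_mn (hxm.symm.trans (hB r hr hd x hxr hxz))
  have hrn : r ∣ n := (h.noncentral_prime hxz hxr).resolve_left hrm
  -- elements of `C`
  have hσ : ∀ {t : ℕ}, t.Prime → t ∣ m → ∀ {σ : G}, σ ∈ cent x → σ ∉ center G → IsElt t σ →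
      cent σ ≤ cent x := fun {t} ht htm {σ} hσx hσz hσt =>
    h.cent_le_of_coprime (hB t ht htm σ hσt hσz) (mem_cent_symm hσx)
      (IsElt.coprime ht hr (fun e => hrm (e ▸ htm)) hσt hxr)
  have hsyl : ∀ t : ℕ, t.Prime → t ∣ m → cp t (⊤ : Subgroup G) = t * cp t (cent x) := by
    intro t ht htm
    haveI := Fact.mk ht
    obtain ⟨σ, hσx, hσz, hσt⟩ := exists_noncentral (q := t) (h.part_lt htm hxz)
    obtain ⟨P⟩ : Nonempty (Sylow t G) := inferInstance
    obtain ⟨v, hvP, hvz, hvs, hcomm⟩ := exists_z2_sylow h (g := x) (hxm ▸ htm) P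
    have hvi := hB t ht htm v (isElt_of_mem P.2 hvP) hvz
    rw [h.part_const ht htm hxz hvz]
    refine h.card_eq_mul (b := r) (fun e => hrm (e ▸ htm)) P.2 (card_sylow P) hvP hvs hcomm hvi
      (htm.mul_right n) ?_ fun a _ haz _ => (h.part_const ht htm haz hvz).le
    rw [part_const_of_eq r (hvi.trans (hB t ht htm σ hσt hσz).symm)]
    exact cp_center_lt hxz hxr (center_le_cent σ) (mem_cent_symm hσx)
  obtain ⟨s, hs, hsm⟩ := Nat.exists_prime_and_dvd (n := m) (by have := h.hm; omega)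
  haveI := Fact.mk hs
  obtain ⟨U, hUC, hUp, hUc⟩ := exists_le_card_cp s (cent x)
  obtain ⟨P, hP, hPc, hUP, hPn⟩ := card_sylow_le_normalizer hUp (by rw [hsyl s hs hsm, hUc])
  obtain ⟨v, hvU, hvz, -, hcomm⟩ := exists_z2 hP hUP hPn fun hle => by
    have h1 := card_le_cp hUp hle
    rw [hUc] at h1
    have h2 := h.part_lt (s := s) hsm hxz
    omega
  have hvs : IsElt s v := isElt_of_mem hUp hvU
  have hvi := hB s hs hsm v hvs hvz
  have hYC : cent v ≤ cent x := hσ hs hsm (hUC hvU) hvz hvs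
  have hrv : ¬ r ∣ orderOf v := IsElt.not_dvd hs hr (fun e => hrm (e ▸ hsm)) hvs
  have hxY : x ∈ zPart r (cent v) :=
    h.mem_zPart' hvi hrv (mem_cent_symm (hUC hvU)) hxr
  -- the index of the normalizer of `cent v` is prime to `m`
  have hN : ∀ t : ℕ, t.Prime → t ∣ m → ¬ t ∣ (normalizer ((cent v : Subgroup G) : Set G)).index := by
    intro t ht htm
    haveI := Fact.mk ht
    suffices ∃ Q : Subgroup G, Q ≤ normalizer ((cent v : Subgroup G) : Set G) ∧
        Nat.card Q = cp t (⊤ : Subgroup G) ∧ IsPGroup t Q by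
      obtain ⟨Q, hQ, hQc, hQp⟩ := this
      exact cp_eq_top_iff.1 (le_antisymm (cp_mono le_top) (hQc ▸ card_le_cp hQp hQ))
    by_cases hts : t = s
    · subst hts
      exact ⟨P, fun g hg => normalizer_of_mod (hcomm g hg), hPc, hP⟩
    · obtain ⟨U', hU', hU'p, hU'c⟩ := exists_le_card_cp t (cent v)
      obtain ⟨Q, hQ, hQc, hU'Q, hQn⟩ := card_sylow_le_normalizer hU'p (by
        rw [hsyl t ht htm, hU'c, h.part_const ht htm hxz hvz])
      obtain ⟨u, hu, huz⟩ : ∃ u ∈ U', u ∉ center G := by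
        refine SetLike.not_le_iff_exists.1 fun hle => ?_
        have h1 := card_le_cp hU'p hle
        rw [hU'c] at h1
        have h2 := h.part_lt (s := t) htm hvz
        omega
      have hcu : ∀ w ∈ U', w ∉ center G → cent w = cent v := fun w hw hwz =>
        (h.cent_eq_of_coprime hvi (hB t ht htm w (isElt_of_mem hU'p hw) hwz) (hU' hw)
          (IsElt.coprime hs ht (Ne.symm hts) hvs (isElt_of_mem hU'p hw))).symm
      refine ⟨Q, fun g hg => normalizer_of_fix (hcu u hu huz) (hcu _ ?_ ?_), hQc, hQ⟩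
      · exact (mem_normalizer_iff.1 (hQn hg) u).1 hu
      · exact fun hh => huz (SylowTwoSizes.conj_mem_center.1 hh)
  have hcop : (cent x).index.Coprime (normalizer ((cent v : Subgroup G) : Set G)).index := by
    rw [hxm]
    by_contra hc
    obtain ⟨t, ht, htm, htN⟩ := Nat.Prime.not_coprime_iff_dvd.1 hc
    exact hN t ht htm htN
  have hYW : cent v ≤ (cent x).normalCore := by
    intro a ha b
    obtain ⟨k, hk, c, hc, hkc⟩ := Solvable.exists_mul_of_coprime_index hcop b⁻¹
    have hkx : k * x * k⁻¹ ∈ zPart r (cent v) :=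
      (mem_normalizer_iff.1 (zPart_normalizer r le_rfl hk) x).1 hxY
    have e : b⁻¹ * x * b = k * x * k⁻¹ := by
      conv_lhs => rw [show b = (b⁻¹)⁻¹ by rw [inv_inv], hkc, inv_inv]
      calc k * c * x * (k * c)⁻¹ = k * (c * x) * c⁻¹ * k⁻¹ := by group
        _ = _ := by rw [mem_cent.1 hc]; group
    have h1 := mem_centralizer_iff.1 (mem_zPart.1 hkx).2.1 a ha
    rw [← e] at h1
    rw [mem_cent]
    calc b * a * b⁻¹ * x = b * (a * (b⁻¹ * x * b)) * b⁻¹ := by group
      _ = _ := by rw [h1]; group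
  have hW : ∀ t : ℕ, t.Prime → t ∣ m → cp t (cent x).normalCore = cp t (cent v) := fun t ht htm =>
    haveI := Fact.mk ht
    le_antisymm ((cp_mono (normalCore_le _)).trans (h.part_const ht htm hxz hvz).le) (cp_mono hYW)
  refine ⟨s, r, x, v, P, h, hB, hr, hrn, hs, hsm, hxr, hxm, hP, hPc, ?_, hUP hvU, hvz, hcomm, hYW,
    hW s hs hsm, fun t ht htm => ?_⟩
  · rw [hsyl s hs hsm, h.part_const hs hsm hxz hvz]
  haveI := Fact.mk ht
  obtain ⟨Q⟩ : Nonempty (Sylow t G) := inferInstance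
  obtain ⟨g, hgQ, hgW⟩ : ∃ g ∈ (Q : Subgroup G), g ∉ (cent x).normalCore := by
    refine SetLike.not_le_iff_exists.1 fun hle => ?_
    exact Q.not_dvd_index ((hxm ▸ htm : t ∣ (cent x).index).trans
      (index_dvd_of_le (hle.trans (normalCore_le _))))
  have hgz : g ∉ center G := fun hz => hgW fun b => center_le_cent x
    ((inferInstance : (center G).Normal).conj_mem g hz b)
  have hgt := isElt_of_mem Q.2 hgQ
  have hcg := h.part_const ht htm hvz hgz
  rw [hcg]
  refine cp_eq_mul_center h hr (fun e => hrm (e ▸ htm)) hxr (hB t ht htm) hgt hgW ?_ ?_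
  · rw [hsyl t ht htm, h.part_const ht htm hxz hgz]
  · rw [← hcg, hW t ht htm]

end Cfsg.Agent.ThreeSizes
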