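import Cfsg.Agent.Lib.ThreeSizes.BadPrimes
import Cfsg.Agent.S0144
import Cfsg.Agent.Lib.Solvable.Basic
import Cfsg.Agent.Lib.Signalizer.PAction
import Cfsg.Agent.Lib.Cores.Frattini

/-!
# All primary elements for primes dividing `m` have class size `m n`: contradiction
-/

open Subgroup
open scoped commutatorElement Pointwise

namespace Cfsg.Agent.ThreeSizes

set_option linter.unusedSectionVars false

variable {G : Type*} [Group G] [Finite G] {m n : ℕ}

local notation "cent" x:max => Subgroup.centralizer ({x} : Set _)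

variable {s r : ℕ} [hs : Fact s.Prime] {x v : G} {P : Subgroup G}

theorem Core.central_other (c : Core G m n s r x v P) {p : ℕ} (hp : p.Prime) (hps : p ≠ s) (hpr : p ≠ r)
    {a : G} (ha : IsElt p a) : a ∈ center G := by
  haveI := Fact.mk hp
  have hm : ¬ p ∣ m := fun hd => hps ((Nat.prime_dvd_prime_iff_eq hp c.hsp).1 (c.m_eq ▸ hd))
  have hn : ¬ p ∣ n := fun hd => hpr (c.n_dvd_eq hp hd)
  refine central_of_not_dvd (fun g hg => ?_) ha
  rcases c.hyp.size g with e | e | e <;> rw [e] at hg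
  · exact hp.not_dvd_one hg
  · exact hm hg
  · exact (hp.dvd_mul.1 hg).elim hm hn

theorem Core.core_compl (c : Core G m n s r x v P) :
    ∃ K : Subgroup G, (∀ w, w ∈ K ↔ w ∈ (cent x).normalCore ∧ ¬ s ∣ orderOf w) ∧ K.Normal ∧
      ¬ s ∣ Nat.card K ∧ Nat.card (cent x).normalCore = Nat.card K * Nat.card ↥(P ⊓ cent v) := by
  set W := (cent x).normalCore with hW
  have hSW : P ⊓ cent v ≤ W := c.inf_core.ge.trans inf_le_right
  have hcard : Nat.card ((P ⊓ cent v).subgroupOf W) = s ^ (Nat.card W).factorization s := by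
    rw [Nat.card_congr (subgroupOfEquivOfLe hSW).toEquiv, c.card_inf c.normalizes, ← c.hW]
    rfl
  let S₀ : Sylow s W := Sylow.ofCard _ hcard
  have hburn : normalizer ((S₀ : Subgroup W) : Set W) ≤ centralizer ((S₀ : Subgroup W) : Set W) := by
    intro h hh
    have hhn : (h : G) ∈ normalizer ((P ⊓ cent v : Subgroup G) : Set G) :=
      Coprime.mem_normalizer_of_forall fun a ha =>
        (mem_normalizer_iff.1 hh (⟨a, hSW ha⟩ : W)).1 ha
    have hcv := c.commute_of_normalizes h.2 hhn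
    have h1 : center G ⊔ zpowers v ≤ cent (h : G) :=
      sup_le (center_le_cent _) (zpowers_le.2 (mem_cent.2 hcv.eq.symm))
    exact mem_centralizer_iff.2 fun a ha => Subtype.ext (mem_cent.1 (h1 (c.S_le ha)))
  have hcompl := MonoidHom.ker_transferSylow_isComplement' S₀ hburn
  set K₀ := (MonoidHom.transferSylow S₀ hburn).ker with hK₀
  have hidx : K₀.index = s ^ (Nat.card W).factorization s := by
    rw [← hcard]; exact hcompl.symm.index_eq_card.trans rfl
  have hmul : Nat.card W = Nat.card K₀ * Nat.card ((P ⊓ cent v).subgroupOf W) := hcompl.card_mul.symm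
  have hnd : ¬ s ∣ Nat.card K₀ := by
    intro hd
    have h1 := congrArg (fun a => a.factorization s) hmul
    rw [hcard, Nat.factorization_mul Nat.card_pos.ne' (pow_ne_zero _ hs.out.ne_zero)] at h1
    simp only [Finsupp.add_apply, hs.out.factorization_pow, Finsupp.single_eq_same] at h1
    have := (hs.out.dvd_iff_one_le_factorization Nat.card_pos.ne').1 hd
    omega
  have hiff : ∀ w, w ∈ K₀.map W.subtype ↔ w ∈ W ∧ ¬ s ∣ orderOf w := by
    refine fun w => ⟨?_, ?_⟩
    · rintro ⟨a, ha, rfl⟩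
      refine ⟨a.2, fun hd => hnd (hd.trans ?_)⟩
      show orderOf (a : G) ∣ Nat.card K₀
      rw [Subgroup.orderOf_coe]
      exact Subgroup.orderOf_dvd_natCard _ ha
    · rintro ⟨hwW, hws⟩
      exact ⟨⟨w, hwW⟩, mem_of_index_pow hs.out hidx (by rwa [Subgroup.orderOf_mk]), rfl⟩
  refine ⟨K₀.map W.subtype, hiff, ⟨fun k hk g => ?_⟩, ?_, ?_⟩
  · rw [hiff] at hk ⊢
    exact ⟨(inferInstance : W.Normal).conj_mem k hk.1 g,
      by rw [show g * k * g⁻¹ = MulAut.conj g k from rfl, MulEquiv.orderOf_eq]; exact hk.2⟩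
  · rwa [card_map_of_injective W.subtype_injective]
  · rw [card_map_of_injective W.subtype_injective, hmul,
      Nat.card_congr (subgroupOfEquivOfLe hSW).toEquiv]

theorem Core.nilpotent_compl (c : Core G m n s r x v P) {K : Subgroup G}
    (hK : ∀ w, w ∈ K ↔ w ∈ (cent x).normalCore ∧ ¬ s ∣ orderOf w) : Group.IsNilpotent K := by
  haveI := Fact.mk c.hrp
  have hp : IsPGroup r (K ⧸ center K) := by
    intro q
    induction q using QuotientGroup.induction_on with | H g => ?_
    obtain ⟨a, b, hab, hc, ha, hb, ⟨i, hi⟩, hbr⟩ := exists_parts c.hrp (g : G)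
    refine ⟨i, ?_⟩
    rw [← QuotientGroup.mk_pow, QuotientGroup.eq_one_iff, mem_center_iff]
    intro k
    have hbz : b ∈ center G := Transfer.mem_of_forall_primePow fun p hp y hy hyp => by
      have hgK := (hK g).1 g.2
      have hd : orderOf y ∣ orderOf (g : G) := orderOf_dvd_of_mem_zpowers (zpowers_le.2 hb hy)
      obtain ⟨j, hj⟩ := hyp
      rcases Nat.eq_zero_or_pos j with rfl | hj0
      · rw [pow_zero, orderOf_eq_one_iff] at hj
        subst hj
        exact one_mem _
      refine c.central_other hp (fun e => hgK.2 ?_) (fun e => hbr ?_) ⟨j, hj⟩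
      · exact e ▸ (hj ▸ dvd_pow_self p hj0.ne' : p ∣ orderOf y).trans hd
      · exact e ▸ (hj ▸ dvd_pow_self p hj0.ne' : p ∣ orderOf y).trans (orderOf_dvd_of_mem_zpowers hy)
    have hpow : (g : G) ^ r ^ i = b ^ r ^ i := by
      rw [hab, hc.mul_pow, ← hi, pow_orderOf_eq_one, one_mul]
    refine Subtype.ext ?_
    rw [Subgroup.coe_mul, Subgroup.coe_mul, Subgroup.coe_pow, hpow]
    exact mem_center_iff.1 (pow_mem hbz _) k
  exact Group.of_quotient_center_nilpotent hp.isNilpotent

theorem Core.exists_conj_into (c : Core G m n s r x v P) {K : Subgroup G} [K.Normal]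
    (hKs : ¬ s ∣ Nat.card K) (hKW : K ≤ (cent x).normalCore)
    (hWc : Nat.card (cent x).normalCore = Nat.card K * Nat.card ↥(P ⊓ cent v))
    {a : G} (ha : IsElt s a) : ∃ k ∈ K, k * a * k⁻¹ ∈ P := by
  haveI := Fact.mk c.hrp
  set W := (cent x).normalCore with hW
  set f := QuotientGroup.mk' W with hf
  have hWC : W ≤ cent x := normalCore_le _
  have hidxC : (cent x).index = s := c.hxm.trans c.m_eq
  -- the primes of `G ⧸ W`
  have hprimes : ∀ p : ℕ, p.Prime → p ∣ W.index → p = s ∨ p = r := by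
    intro p hp hpd
    by_contra hne
    push Not at hne
    haveI := Fact.mk hp
    obtain ⟨Q⟩ : Nonempty (Sylow p G) := inferInstance
    refine Q.not_dvd_index (hpd.trans (index_dvd_of_le fun q hq b => center_le_cent x ?_))
    exact (inferInstance : (center G).Normal).conj_mem q
      (c.central_other hp hne.1 hne.2 (isElt_of_mem Q.2 hq)) b
  have hcardQ : Nat.card (G ⧸ W) =
      s ^ W.index.factorization s * r ^ (W.index / s ^ W.index.factorization s).primeFactorsList.length := by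
    rw [← Subgroup.index_eq_card]
    conv_lhs => rw [← Nat.ordProj_mul_ordCompl_eq_self W.index s]
    congr 1
    refine Nat.eq_prime_pow_of_unique_prime_dvd (Nat.ordCompl_pos s index_ne_zero_of_finite).ne'
      fun {d} hd hdd => ?_
    refine (hprimes d hd (hdd.trans (Nat.ordCompl_dvd _ _))).resolve_left fun e => ?_
    subst e
    exact Nat.not_dvd_ordCompl hd index_ne_zero_of_finite hdd
  haveI : Group.IsSolvable (G ⧸ W) := S0144.result s r _ _ c.hsp c.hrp hcardQ
  haveI : Nontrivial (G ⧸ W) := QuotientGroup.nontrivial_iff.2 fun e => by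
    have h1 : cent x = ⊤ := top_le_iff.1 (e ▸ hWC)
    have h2 := hidxC
    rw [h1, index_top] at h2
    exact hs.out.ne_one h2.symm
  obtain ⟨q, hq, B, hBn, hB0, hBq⟩ := Solvable.exists_normal_pGroup_ne_bot (G ⧸ W)
  haveI := Fact.mk hq
  haveI := hBn
  set M := B.comap f with hM
  have hWM : W ≤ M := fun a ha => by
    rw [hM, mem_comap, hf, QuotientGroup.mk'_apply, (QuotientGroup.eq_one_iff a).2 ha]
    exact one_mem B
  have hrel : W.relIndex M = Nat.card B := by
    have h1 := Subgroup.relIndex_comap (⊥ : Subgroup (G ⧸ W)) f M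
    rw [MonoidHom.comap_bot, hf, QuotientGroup.ker_mk', ← hf,
      map_comap_eq_self_of_surjective (QuotientGroup.mk'_surjective W), relIndex_bot_left] at h1
    exact h1
  obtain ⟨i, hi⟩ := IsPGroup.iff_card.1 hBq
  have hi0 : i ≠ 0 := by
    rintro rfl
    exact hB0 (Subgroup.card_eq_one.1 (by rw [hi, pow_zero]))
  have hBd : Nat.card B ∣ W.index := by
    rw [← hrel, ← relIndex_mul_index hWM]; exact dvd_mul_right _ _
  have hqr : q = s := by
    refine (hprimes q hq ((hi ▸ dvd_pow_self q hi0 : q ∣ Nat.card B).trans hBd)).resolve_right fun e => ?_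
    subst e
    have h1 : (cent x).relIndex M ∣ s := hidxC ▸ ClassIndex.relIndex_dvd_index_of_normal_right (cent x) M
    have h2 : (cent x).relIndex M ∣ q ^ i := hi ▸ hrel ▸ relIndex_dvd_of_le_left M hWC
    have hco : s.Coprime (q ^ i) := ((Nat.coprime_primes c.hsp hq).2 fun e =>
      c.hyp.not_dvd_n c.hsp c.hsm (e ▸ c.hrn)).pow_right i
    have hMC : M ≤ cent x := relIndex_eq_one.1 (Nat.eq_one_of_dvd_coprimes hco h1 h2)
    have hMW : M ≤ W := fun a ha b => hMC ((inferInstance : M.Normal).conj_mem a ha b)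
    rw [relIndex_eq_one.2 hMW, hi] at hrel
    exact (Nat.one_lt_pow hi0 hq.one_lt).ne hrel
  subst hqr
  have hfW : W.index.factorization q = 1 := by
    have h1 := factorization_add q W
    have h2 := c.hPmul
    rw [← c.hW, cp, cp, Subgroup.card_top, ← pow_succ', (Nat.pow_right_injective hq.two_le).eq_iff, ← hW] at h2
    omega
  have hi1 : i = 1 := by
    have h1 := (hq.pow_dvd_iff_le_factorization index_ne_zero_of_finite).1 (hi ▸ hBd)
    omega
  subst hi1
  rw [pow_one] at hi
  have hMidx : ¬ q ∣ M.index := by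
    intro hd
    have h1 := relIndex_mul_index hWM
    rw [hrel, hi] at h1
    have h2 : q ^ 2 ∣ W.index := h1 ▸ (pow_two q).symm ▸ mul_dvd_mul_left q hd
    have h3 := (hq.pow_dvd_iff_le_factorization index_ne_zero_of_finite).1 h2
    omega
  have hsM : ∀ {b : G}, IsElt q b → b ∈ M := fun {b} hb =>
    Coprime.mem_of_pow_mem (n := M.index) (IsElt.coprime_order hq hb hMidx) (Subgroup.pow_index_mem _ _)
  have hPM : P ≤ M := fun b hb => hsM (isElt_of_mem c.hP hb)
  have hsup : P ⊔ K = M := by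
    refine eq_of_le_of_card_ge (sup_le hPM (hKW.trans hWM)) ?_
    have h1 := PLocal.card_sup_mul_card_inf (H := K) (K := P) (by rw [normalizer_eq_top]; exact le_top)
    have h2 : K ⊓ P = ⊥ := by
      refine Subgroup.card_eq_one.1 (Nat.eq_one_of_dvd_coprimes ?_ (card_dvd_of_le inf_le_left)
        (card_dvd_of_le inf_le_right))
      obtain ⟨k, hk⟩ := IsPGroup.iff_card.1 c.hP
      rw [hk]
      exact Nat.Coprime.pow_right k ((hq.coprime_iff_not_dvd.2 hKs).symm)
    rw [h2, Subgroup.card_bot, mul_one, sup_comm] at h1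
    rw [h1, c.hPc, c.hPmul, ← card_inf_mul_relIndex W M, inf_eq_left.2 hWM, hrel, hi, hWc,
      c.card_inf c.normalizes]
    exact le_of_eq (by ring)
  have hU : Nat.card (P.subgroupOf M) = cp q (⊤ : Subgroup M) := by
    rw [Nat.card_congr (subgroupOfEquivOfLe hPM).toEquiv, c.hPc, ← (cp_eq_top_iff (H := M)).2 hMidx, cp, cp,
      Subgroup.card_top]
  have haM := hsM ha
  have ha' : IsElt q (⟨a, haM⟩ : M) := by
    obtain ⟨j, hj⟩ := ha
    exact ⟨j, by rw [Subgroup.orderOf_mk, hj]⟩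
  obtain ⟨g, hg⟩ := exists_conj_mem hU (isPGroup_zpowers ha')
  have hg' : (g : G) * a * (g : G)⁻¹ ∈ P := mem_subgroupOf.1 (hg _ (mem_zpowers _))
  have hgs : (g : G) ∈ P ⊔ K := hsup.symm ▸ g.2
  rw [← SetLike.mem_coe, Subgroup.mul_normal] at hgs
  obtain ⟨p, hp, k, hk, e⟩ := Set.mem_mul.1 hgs
  refine ⟨k, hk, ?_⟩
  have h5 := P.mul_mem (P.mul_mem (P.inv_mem hp) hg') hp
  rw [← e] at h5
  simpa [mul_assoc] using h5

theorem Core.mem_core_of_commute (c : Core G m n s r x v P) {g t : G} (hg : g ∈ P) (hgv : g ∉ cent v)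
    (ht : IsElt r t) (hgt : Commute g t) : t ∈ (cent x).normalCore := by
  haveI := Fact.mk c.hrp
  set C := cent x with hC
  have hcC : cp s C = cp s (cent v) := c.hyp.part_const c.hsp c.hsm (c.hyp.noncentral_of_m c.hxm) c.vz
  have hSC : P ⊓ cent v ≤ C := c.inf_core.ge.trans (inf_le_right.trans (normalCore_le _))
  have hgC : g ∉ C := by
    intro hgC
    have h1 := card_le_cp (c.hP.to_le (inf_le_left : P ⊓ C ≤ P)) (inf_le_right : P ⊓ C ≤ C)
    rw [hcC, ← c.card_inf c.normalizes] at h1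
    exact hgv ((eq_of_le_of_card_ge (le_inf inf_le_left hSC) h1).ge ⟨hg, hgC⟩).2
  have hrel : C.relIndex (zpowers g) = s := by
    obtain ⟨i, hi⟩ := isElt_of_mem c.hP hg
    have hd : C.relIndex (zpowers g) ∣ s ^ i := by
      rw [← hi, ← Nat.card_zpowers]
      exact ⟨_, ((mul_comm _ _).trans (card_inf_mul_relIndex C (zpowers g))).symm⟩
    obtain ⟨j, -, hj⟩ := (Nat.dvd_prime_pow hs.out).1 hd
    have hidx : C.index = s := c.hxm.trans c.m_eq
    have h1 : C.relIndex (zpowers g) ≤ s := by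
      rw [← hidx, ← relIndex_top_right]
      exact relIndex_le_of_le_right le_top (by rw [relIndex_top_right]; exact index_ne_zero_of_finite)
    have hj0 : j ≠ 0 := by
      rintro rfl
      exact hgC (relIndex_eq_one.1 (hj.trans (pow_zero s)) (mem_zpowers g))
    rw [hj] at h1 ⊢
    have : j ≤ 1 := (Nat.pow_le_pow_iff_right hs.out.one_lt).1 (h1.trans (pow_one s).ge)
    rw [show j = 1 by omega, pow_one]
  have huniv : (zpowers g : Set G) * (C : Set G) = Set.univ := by
    refine Set.eq_of_subset_of_ncard_le (Set.subset_univ _) ?_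
    rw [Set.ncard_univ, ← Nat.card_coe_set_eq]
    have h1 := Coprime.card_mul_inf (zpowers g) C
    rw [inf_comm, ← card_inf_mul_relIndex C (zpowers g), hrel] at h1
    have h2 := C.card_mul_index
    rw [show C.index = s from c.hxm.trans c.m_eq] at h2
    refine le_of_eq (Eq.symm (Nat.eq_of_mul_eq_mul_right (Nat.card_pos (α := ↥(C ⊓ zpowers g))) ?_))
    rw [h1, ← h2]; ring
  have hdec : ∀ a : G, ∃ i : ℤ, ∃ w ∈ C, a = g ^ i * w := fun a => by
    obtain ⟨p, hp, w, hw, e⟩ := Set.mem_mul.1 (huniv.ge (Set.mem_univ a))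
    obtain ⟨i, rfl⟩ := mem_zpowers_iff.1 hp
    exact ⟨i, w, hw, e.symm⟩
  obtain ⟨i, w, hw, e⟩ := hdec t
  have htC : t ∈ C := by
    have hgw : Commute (g ^ i) w := by
      rw [show w = (g ^ i)⁻¹ * t by rw [e]; group]
      exact (Commute.refl (g ^ i)).inv_right.mul_right (hgt.zpow_left i)
    refine Coprime.mem_of_pow_mem (n := orderOf g) ?_ ?_
    · obtain ⟨j, hj⟩ := isElt_of_mem c.hP hg
      rw [hj]
      exact IsElt.coprime_order c.hrp ht
        fun hd => c.hyp.not_dvd_n c.hsp c.hsm ((Nat.prime_dvd_prime_iff_eq c.hrp hs.out).1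
          (c.hrp.dvd_of_dvd_pow hd) ▸ c.hrn)
    · rw [e, hgw.mul_pow, ← zpow_natCast (g ^ i), ← zpow_mul, mul_comm, zpow_mul, zpow_natCast,
        pow_orderOf_eq_one, one_zpow, one_mul]
      exact C.pow_mem hw _
  intro a
  obtain ⟨j, w', hw', e'⟩ := hdec a⁻¹
  have e2 : a * t * a⁻¹ = w'⁻¹ * t * w' := by
    have ha : a = (g ^ j * w')⁻¹ := by rw [← e', inv_inv]
    calc a * t * a⁻¹ = w'⁻¹ * ((g ^ j)⁻¹ * t * g ^ j) * w' := by rw [ha]; group
      _ = _ := by
        rw [mul_assoc (g ^ j)⁻¹ t, ← (hgt.zpow_left j).eq, inv_mul_cancel_left]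
  rw [e2]
  exact C.mul_mem (C.mul_mem (C.inv_mem hw') htC) hw'

theorem Core.false (c : Core G m n s r x v P) : False := by
  haveI := Fact.mk c.hrp
  have h := c.hyp
  obtain ⟨K, hK, hKn, hKs, hWc⟩ := c.core_compl
  haveI := hKn
  haveI := c.nilpotent_compl hK
  have hKW : K ≤ (cent x).normalCore := fun w hw => ((hK w).1 hw).1
  have hrs : r ≠ s := fun e => h.not_dvd_n c.hsp c.hsm (e ▸ c.hrn)
  have hxY : x ∈ cent v := mem_cent_symm (normalCore_le _ (c.hYW (self_mem v)))
  have hxK : x ∈ K := (hK x).2 ⟨c.hYW hxY, IsElt.not_dvd c.hrp hs.out hrs c.hxr⟩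
  set D := ⁅K, K⁆ ⊔ (center G ⊓ K) with hD
  have hDK : D ≤ K := sup_le (commutator_le_right K K) inf_le_right
  haveI : D.Normal := by rw [hD]; infer_instance
  set π := QuotientGroup.mk' D with hπ
  have hab : ∀ {a b : G}, a ∈ K → b ∈ K → Commute (π a) (π b) := fun {a b} ha hb => by
    refine commutatorElement_eq_one_iff_mul_comm.1 ?_
    rw [← map_commutatorElement]
    exact (QuotientGroup.eq_one_iff _).2 (mem_sup_left (commutator_mem_commutator ha hb))
  have hπ1 : ∀ {a : G}, a ∈ D → π a = 1 := fun ha => (QuotientGroup.eq_one_iff _).2 ha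
  -- a subgroup covering `K` modulo `D` contains `K`
  have hcover : ∀ H : Subgroup G, H ≤ K → center G ⊓ K ≤ H → K ≤ H ⊔ D → K ≤ H := by
    intro H hHK hZH hle
    have h1 : K ≤ H ⊔ ⁅K, K⁆ := hle.trans
      (sup_le le_sup_left (sup_le le_sup_right (hZH.trans le_sup_left)))
    have hcomm : (commutator K).map K.subtype = ⁅K, K⁆ := by
      rw [commutator_def, Subgroup.map_commutator, ← MonoidHom.range_eq_map, range_subtype]
    have h2 : H.subgroupOf K ⊔ commutator K = ⊤ := by
      refine map_injective K.subtype_injective ?_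
      rw [Subgroup.map_sup, map_subgroupOf_eq_of_le hHK, hcomm, ← MonoidHom.range_eq_map, range_subtype]
      exact le_antisymm (sup_le hHK (commutator_le_right K K)) h1
    have h3 : H.subgroupOf K = ⊤ :=
      frattini_nongenerating (top_le_iff.1 (h2.ge.trans (sup_le_sup_left Cores.commutator_le_frattini _)))
    exact subgroupOf_eq_top.1 h3
  obtain ⟨g₀, hg₀, hg₀v⟩ := c.exists_not_mem
  -- two elements outside a line generate `P` modulo the centre
  have hgen : ∀ u ∈ P, u ∉ center G → ∀ u' ∈ P, u' ∉ center G ⊔ zpowers u →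
      P ≤ center G ⊔ zpowers u ⊔ zpowers u' := by
    intro u hu huz u' hu' hnot
    set L := (P ⊓ center G) ⊔ zpowers u with hL
    set H := L ⊔ zpowers u' with hH
    have hLP : L ≤ P := sup_le inf_le_left (zpowers_le.2 hu)
    have hHP : H ≤ P := sup_le hLP (zpowers_le.2 hu')
    have hlt1 : Nat.card ↥(P ⊓ center G) < Nat.card L := by
      by_contra hge
      push Not at hge
      exact huz (eq_of_le_of_card_ge (le_sup_left : P ⊓ center G ≤ L) hge ▸
        mem_sup_right (mem_zpowers u) : u ∈ P ⊓ center G).2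
    have hlt2 : Nat.card L < Nat.card H := by
      by_contra hge
      push Not at hge
      have h1 : u' ∈ L := eq_of_le_of_card_ge (le_sup_left : L ≤ H) hge ▸ mem_sup_right (mem_zpowers u')
      exact hnot ((sup_le_sup_right inf_le_right _ : L ≤ center G ⊔ zpowers u) h1)
    obtain ⟨i, hi⟩ := IsPGroup.iff_card.1 (c.hP.to_le hLP)
    obtain ⟨j, hj⟩ := IsPGroup.iff_card.1 (c.hP.to_le hHP)
    rw [c.card_inf (by rw [normalizer_eq_top]; exact le_top), hi] at hlt1
    rw [hi, hj] at hlt2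
    have h1 := (Nat.pow_lt_pow_iff_right hs.out.one_lt).1 hlt1
    have h2 := (Nat.pow_lt_pow_iff_right hs.out.one_lt).1 hlt2
    have e : H = P := eq_of_le_of_card_ge hHP (by
      rw [c.hPc, c.hPmul, c.hsmall s c.hsp c.hsm, hj, cp, ← pow_succ', ← pow_succ']
      exact Nat.pow_le_pow_right hs.out.pos (by omega))
    rw [← e]
    exact sup_le_sup_right (sup_le_sup_right inf_le_right _) _
  have hPab : ∀ a ∈ P, ∀ b ∈ P, ⁅a, b⁆ ∈ center G := by
    have hP := hgen v c.vP c.vz g₀ hg₀ fun hmem => hg₀v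
      (sup_le (center_le_cent v) (zpowers_le.2 (self_mem v)) hmem)
    let q := QuotientGroup.mk' (center G)
    have hZq : ∀ (b : G ⧸ center G), center G ≤ (cent b).comap q := fun b z hz => by
      rw [mem_comap, mem_cent]
      simp only [q, QuotientGroup.mk'_apply, (QuotientGroup.eq_one_iff z).2 hz, one_mul, mul_one]
    have hvg : Commute (q g₀) (q v) := by
      refine commutatorElement_eq_one_iff_mul_comm.1 ?_
      rw [← map_commutatorElement]
      exact (QuotientGroup.eq_one_iff _).2 (c.hcomm g₀ hg₀)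
    intro a ha b hb
    have hv : P ≤ (cent (q v)).comap q := hP.trans (sup_le (sup_le (hZq _)
      (zpowers_le.2 (mem_cent.2 rfl))) (zpowers_le.2 (mem_cent.2 hvg.eq)))
    have hg : P ≤ (cent (q g₀)).comap q := hP.trans (sup_le (sup_le (hZq _)
      (zpowers_le.2 (mem_cent.2 hvg.eq.symm))) (zpowers_le.2 (mem_cent.2 rfl)))
    have hb' : P ≤ (cent (q b)).comap q := hP.trans (sup_le (sup_le (hZq _)
      (zpowers_le.2 (mem_cent.2 (mem_cent.1 (hv hb)).symm)))
      (zpowers_le.2 (mem_cent.2 (mem_cent.1 (hg hb)).symm)))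
    refine (QuotientGroup.eq_one_iff _).1 ?_
    show q ⁅a, b⁆ = 1
    rw [map_commutatorElement]
    exact commutatorElement_eq_one_iff_mul_comm.2 (mem_cent.1 (hb' ha))
  -- fixed points of different lines meet in `D`
  have key : ∀ u ∈ P, u ∉ center G → ∀ u' ∈ P, u' ∉ center G → ∀ f ∈ K, Commute (π u) (π f) →
      Commute (π u') (π f) → f ∉ D → ∀ k ∈ K, Commute (π u) (π k) → Commute (π u') (π k) := by
    intro u hu huz u' hu' _ f hf h1 h2 hfD k _ hk
    have hZπ : ∀ (b : G), center G ≤ (cent (π b)).comap π := fun b z hz => by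
      rw [mem_comap, mem_cent, ← map_mul, ← map_mul, mem_center_iff.1 hz b]
    by_cases hline : u' ∈ center G ⊔ zpowers u
    · exact mem_cent.1 ((sup_le (hZπ k) (zpowers_le.2 (mem_cent.2 hk.eq)) :
        center G ⊔ zpowers u ≤ (cent (π k)).comap π) hline)
    · exfalso
      have hP : P ≤ (cent (π f)).comap π := (hgen u hu huz u' hu' hline).trans
        (sup_le (sup_le (hZπ f) (zpowers_le.2 (mem_cent.2 h1.eq))) (zpowers_le.2 (mem_cent.2 h2.eq)))
      obtain ⟨d, hd, hdf⟩ := Signalizer.exists_fixed_in_coset c.hP (N := D)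
        (by rw [normalizer_eq_top]; exact le_top) (fun hd => hKs (hd.trans (card_dvd_of_le hDK))) f
        (fun a ha => by
          refine (QuotientGroup.eq_one_iff _).1 ?_
          show π (a * f * a⁻¹ * f⁻¹) = 1
          rw [← commutatorElement_def, map_commutatorElement]
          exact commutatorElement_eq_one_iff_mul_comm.2 (mem_cent.1 (hP ha)))
      have hdz : d * f ∈ center G := by
        by_contra hz
        have hle : P ≤ cent (d * f) := fun a ha => mem_cent.2 (mem_centralizer_iff.1 hdf a ha)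
        have h3 := card_le_cp c.hP hle
        rw [c.hPc] at h3
        exact cp_eq_top_iff.1 (le_antisymm (cp_mono le_top) h3) (c.hsm.trans (h.m_dvd hz))
      refine hfD ?_
      have h4 : d * f ∈ D := mem_sup_right ⟨hdz, K.mul_mem (hDK hd) hf⟩
      have h5 := D.mul_mem (D.inv_mem hd) h4
      rwa [inv_mul_cancel_left] at h5
  -- every element of `K` is fixed by some line
  have hex : ∀ f ∈ K, ∃ u ∈ P, u ∉ center G ∧ Commute (π u) (π f) := by
    intro f hf
    by_cases hfz : f ∈ center G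
    · exact ⟨v, c.vP, c.vz, by rw [hπ1 (mem_sup_right ⟨hfz, hf⟩)]; exact Commute.one_right _⟩
    obtain ⟨a, haf, haz, has⟩ := exists_noncentral (h.part_lt (s := s) c.hsm hfz)
    obtain ⟨k, hk, hkP⟩ := c.exists_conj_into hKs hKW hWc has
    refine ⟨k * a * k⁻¹, hkP, fun hz => haz (SylowTwoSizes.conj_mem_center.1 hz), ?_⟩
    have e : π (k * f * k⁻¹) = π f := by
      rw [map_mul, map_mul, map_inv, (hab hk hf).eq, mul_inv_cancel_right]
    rw [← e]
    exact (show Commute (k * a * k⁻¹) (k * f * k⁻¹) from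
      (show Commute a f from mem_cent.1 haf).map (MulAut.conj k).toMonoidHom).map π
  obtain ⟨u, huP, huz, huK⟩ : ∃ u ∈ P, u ∉ center G ∧ ∀ f ∈ K, Commute (π u) (π f) := by
    by_contra! hno
    obtain ⟨f₁, hf₁, hf₁D⟩ : ∃ f ∈ K, f ∉ D := by
      refine SetLike.not_le_iff_exists.1 fun hle => h.noncentral_of_m c.hxm ?_
      exact (hcover (center G ⊓ K) inf_le_right le_rfl (hle.trans le_sup_right) hxK).1
    obtain ⟨u₁, hu₁, hu₁z, h11⟩ := hex f₁ hf₁
    obtain ⟨f₂, hf₂, h12⟩ := hno u₁ hu₁ hu₁z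
    obtain ⟨u₂, hu₂, hu₂z, h22⟩ := hex f₂ hf₂
    obtain ⟨u₃, hu₃, hu₃z, h33⟩ := hex _ (K.mul_mem hf₁ hf₂)
    have hshift : ∀ a ∈ P, ∀ f : G, Commute (π a) (π f) → Commute (π a) (π (u₃ * f * u₃⁻¹)) := by
      intro a ha f hf
      obtain ⟨z, hz, hz'⟩ : ∃ z ∈ center G, u₃ * a * u₃⁻¹ = z * a :=
        ⟨_, hPab u₃ hu₃ a ha, by rw [commutatorElement_def, inv_mul_cancel_right]⟩
      have hcz : ∀ b : G, Commute (π z) (π b) := fun b =>
        (show Commute z b from (mem_center_iff.1 hz b).symm).map π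
      have h1 : Commute (π u₃ * π a * (π u₃)⁻¹) (π u₃ * π f * (π u₃)⁻¹) :=
        hf.map (MulAut.conj (π u₃)).toMonoidHom
      simp only [← map_inv, ← map_mul] at h1
      rw [hz', map_mul] at h1
      simpa [mul_assoc] using (hcz (u₃ * f * u₃⁻¹)).inv_left.mul_left h1
    set e := u₃ * f₁ * u₃⁻¹ * f₁⁻¹ with he
    have heK : e ∈ K := K.mul_mem (hKn.conj_mem f₁ hf₁ u₃) (K.inv_mem hf₁)
    have he1 : Commute (π u₁) (π e) := by
      rw [he, map_mul _ _ f₁⁻¹, map_inv]
      exact (hshift u₁ hu₁ f₁ h11).mul_right h11.inv_right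
    have hee : π e = π f₂ * (π (u₃ * f₂ * u₃⁻¹))⁻¹ := by
      have h0 : π (u₃ * f₁ * u₃⁻¹) * π (u₃ * f₂ * u₃⁻¹) = π f₁ * π f₂ := by
        rw [← map_mul, show u₃ * f₁ * u₃⁻¹ * (u₃ * f₂ * u₃⁻¹) = u₃ * (f₁ * f₂) * u₃⁻¹ by group,
          map_mul, map_mul, map_inv, h33.eq, mul_inv_cancel_right, map_mul]
      rw [he, map_mul _ _ f₁⁻¹, map_inv, eq_mul_inv_of_mul_eq h0,
        ((hab hf₂ (hKn.conj_mem f₂ hf₂ u₃)).inv_right).eq]
      have hc1 : Commute (π f₁) (π f₂ * (π (u₃ * f₂ * u₃⁻¹))⁻¹) :=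
        (hab hf₁ hf₂).mul_right (hab hf₁ (hKn.conj_mem f₂ hf₂ u₃)).inv_right
      rw [mul_assoc (π f₁), hc1.eq, mul_inv_cancel_right,
        ((hab hf₂ (hKn.conj_mem f₂ hf₂ u₃)).inv_right).eq]
    have he2 : Commute (π u₂) (π e) := hee ▸ h22.mul_right (hshift u₂ hu₂ f₂ h22).inv_right
    have heD : e ∈ D := by
      by_contra heD
      exact h12 (key u₂ hu₂ hu₂z u₁ hu₁ hu₁z e heK he2 he1 heD f₂ hf₂ h22)
    have h31 : Commute (π u₃) (π f₁) := by
      have h1 := hπ1 heD
      rw [he, map_mul, map_mul, map_mul, map_inv, map_inv] at h1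
      exact mul_inv_eq_iff_eq_mul.1 (mul_inv_eq_one.1 h1)
    have h32 : Commute (π u₃) (π f₂) := by
      have h1 := h31.inv_right.mul_right (map_mul π f₁ f₂ ▸ h33)
      rwa [inv_mul_cancel_left] at h1
    exact h12 (key u₃ hu₃ hu₃z u₁ hu₁ hu₁z f₁ hf₁ h31 h11 hf₁D f₂ hf₂ h32)
  -- `u` centralises `K`
  have hKu : K ≤ cent u := by
    refine (hcover (cent u ⊓ K) inf_le_right (inf_le_inf_right _ (center_le_cent u)) ?_).trans inf_le_left
    intro f hf
    obtain ⟨d, hd, hdf⟩ := Signalizer.exists_fixed_in_coset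
      (isPGroup_zpowers (isElt_of_mem c.hP huP)) (N := D)
      (by rw [normalizer_eq_top]; exact le_top) (fun hd => hKs (hd.trans (card_dvd_of_le hDK))) f
      (fun a ha => by
        refine (QuotientGroup.eq_one_iff _).1 ?_
        show π (a * f * a⁻¹ * f⁻¹) = 1
        rw [← commutatorElement_def, map_commutatorElement]
        obtain ⟨i, rfl⟩ := mem_zpowers_iff.1 ha
        rw [map_zpow]
        exact commutatorElement_eq_one_iff_mul_comm.2 ((huK f hf).zpow_left i).eq)
    rw [zpowers_eq_closure, centralizer_closure] at hdf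
    rw [show f = d⁻¹ * (d * f) by group]
    exact mul_mem (mem_sup_right (D.inv_mem hd)) (mem_sup_left ⟨hdf, K.mul_mem (hDK hd) hf⟩)
  have huS : u ∈ P ⊓ cent v := by
    rw [← c.inf_core]
    refine ⟨huP, fun b => mem_cent.2 ?_⟩
    have h1 := mem_cent.1 (hKu (hKn.conj_mem x hxK b⁻¹))
    calc b * u * b⁻¹ * x = b * (u * (b⁻¹ * x * b⁻¹⁻¹)) * b⁻¹ := by group
      _ = _ := by rw [← h1]; group
  have hKY : K ≤ cent v := c.cent_S huS huz ▸ hKu
  -- the final contradiction
  have hgz : g₀ ∉ center G := fun hz => hg₀v (center_le_cent v hz)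
  have hgi := c.all s c.hsp c.hsm g₀ (isElt_of_mem c.hP hg₀) hgz
  obtain ⟨t, htg, htz, htr⟩ := exists_noncentral (q := r) (H := cent g₀) (by
    rw [part_const_of_eq r (hgi.trans c.vi.symm)]
    exact cp_center_lt (h.noncentral_of_m c.hxm) c.hxr (center_le_cent v) hxY)
  have hgt : Commute g₀ t := (mem_cent.1 htg).symm
  have htK : t ∈ K :=
    (hK t).2 ⟨c.mem_core_of_commute hg₀ hg₀v htr hgt, IsElt.not_dvd c.hrp hs.out hrs htr⟩
  have hle : (P ⊓ cent v) ⊔ zpowers g₀ ≤ cent t := by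
    refine sup_le (inf_le_right.trans (h.cent_le_of_coprime c.vi (hKY htK) ?_))
      (zpowers_le.2 (mem_cent.2 hgt.eq))
    exact IsElt.coprime c.hsp c.hrp hrs.symm c.vs htr
  have hp : IsPGroup s ↥((P ⊓ cent v) ⊔ zpowers g₀) :=
    c.hP.to_le (sup_le inf_le_left (zpowers_le.2 hg₀))
  have h1 := (card_le_cp hp hle).trans (h.part_const c.hsp c.hsm htz c.vz).le
  rw [← c.card_inf c.normalizes] at h1
  exact hg₀v ((eq_of_le_of_card_ge (le_sup_left : P ⊓ cent v ≤ _) h1).ge
    (mem_sup_right (mem_zpowers g₀))).2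

theorem Hyp.false_of_allMN (h : Hyp G m n) (hB : AllMN G m n) : False := by
  obtain ⟨s, r, x, v, P, c⟩ := h.exists_core hB
  haveI := Fact.mk c.hsp
  exact c.false

end Cfsg.Agent.ThreeSizes
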