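import Cfsg.Agent.Lib.ThreeSizes.Hyp
import Cfsg.Agent.S4035
import Cfsg.Agent.S4134

/-!
# The centralizer of a primary element with a class of size `m` is abelian
-/

open Subgroup
open scoped commutatorElement

namespace Cfsg.Agent.ThreeSizes

set_option linter.unusedSectionVars false

variable {G : Type*} [Group G] [Finite G] {m n : ℕ}

local notation "cent" x:max => Subgroup.centralizer ({x} : Set _)

theorem card_inf_mul_relIndex (H K : Subgroup G) : Nat.card ↥(H ⊓ K) * H.relIndex K = Nat.card K := by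
  rw [← Subgroup.inf_relIndex_right H K, ← Subgroup.relIndex_bot_left (H ⊓ K),
    Subgroup.relIndex_mul_relIndex _ _ _ bot_le inf_le_right, Subgroup.relIndex_bot_left]

theorem index_eq_card_of_compl {H : Type*} [Group H] [Finite H] {P N : Subgroup H} [N.Normal]
    (hi : P ⊓ N = ⊥) (hs : P ⊔ N = ⊤) : N.index = Nat.card P := by
  have h := PLocal.card_sup_mul_card_inf (H := N) (K := P)
    (by rw [normalizer_eq_top]; exact le_top)
  rw [sup_comm, hs, inf_comm, hi, Subgroup.card_bot, Subgroup.card_top, mul_one,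
    ← N.card_mul_index] at h
  exact Nat.eq_of_mul_eq_mul_left Nat.card_pos h

theorem mem_of_index_pow {H : Type*} [Group H] [Finite H] {s : ℕ} (hs : s.Prime) {N : Subgroup H}
    [N.Normal] {k : ℕ} (hN : N.index = s ^ k) {w : H} (hw : ¬ s ∣ orderOf w) : w ∈ N :=
  Coprime.mem_of_pow_mem (n := s ^ k) ((hs.coprime_iff_not_dvd.2 hw).pow_left k).symm
    (hN ▸ Subgroup.pow_index_mem N w)

theorem IsElt.of_dvd_pow {q : ℕ} (hq : q.Prime) {x : G} {k : ℕ} (h : orderOf x ∣ q ^ k) : IsElt q x := by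
  obtain ⟨i, -, hi⟩ := (Nat.dvd_prime_pow hq).1 h
  exact ⟨i, hi⟩

/-- The `s'`-elements of the centralizer form a subgroup commuting with the `s`-elements. -/
theorem Hyp.split (h : Hyp G m n) {s : ℕ} [hs : Fact s.Prime] (hsm : s ∣ m) {u : G}
    (hu : IsElt s u) (hum : (cent u).index = m) :
    ∃ K : Subgroup G, (∀ w, w ∈ K ↔ w ∈ cent u ∧ ¬ s ∣ orderOf w) ∧
      cent u ≤ normalizer (K : Set G) ∧
      ∀ t ∈ cent u, IsElt s t → ∀ w ∈ K, Commute t w := by
  set C := cent u with hC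
  have hyp : ∀ y : C, (orderOf y).Coprime s → ¬ s ∣ (ConjClasses.mk y).carrier.ncard := by
    intro y hy
    rw [← Nat.card_coe_set_eq, ClassIndex.natCard_carrier_eq_index, centralizer_subtype]
    have hco : (orderOf u).Coprime (orderOf (y : G)) := by
      rw [Subgroup.orderOf_coe]
      exact IsElt.coprime_order hs.out hu (fun hd => hs.out.coprime_iff_not_dvd.1 hy.symm hd)
    have hcu : Commute u (y : G) := (mem_cent.1 y.2).symm
    rcases h.relIndex_cases (y := (y : G)) hum (cent_mul hcu hco) with e | e <;> rw [e]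
    · exact hs.out.not_dvd_one
    · exact h.not_dvd_n hs.out hsm
  obtain ⟨P⟩ : Nonempty (Sylow s C) := inferInstance
  obtain ⟨hPn, H, hHn, hHc, hi, hsup⟩ := S4035.result hyp P
  obtain ⟨k, hk⟩ := IsPGroup.iff_card.1 P.2
  have hidx : H.index = s ^ k := (index_eq_card_of_compl hi hsup).trans hk
  refine ⟨H.map C.subtype, fun w => ⟨?_, ?_⟩, ?_, ?_⟩
  · rintro ⟨w, hw, rfl⟩
    refine ⟨w.2, fun hd => hHc (hd.trans ?_)⟩
    show orderOf (w : G) ∣ Nat.card H
    rw [Subgroup.orderOf_coe]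
    exact Subgroup.orderOf_dvd_natCard _ hw
  · rintro ⟨hwC, hws⟩
    exact ⟨⟨w, hwC⟩, mem_of_index_pow hs.out hidx (by rwa [Subgroup.orderOf_mk]), rfl⟩
  · intro c hc
    refine Coprime.mem_normalizer_of_forall ?_
    rintro _ ⟨w, hw, rfl⟩
    exact ⟨(⟨c, hc⟩ : C) * w * (⟨c, hc⟩ : C)⁻¹, hHn.conj_mem w hw ⟨c, hc⟩, rfl⟩
  · rintro t htC ⟨i, hi'⟩ _ ⟨w, hw, rfl⟩
    have htP : (⟨t, htC⟩ : C) ∈ (P : Subgroup C) := by
      have hnd : ¬ s ∣ (P : Subgroup C).index := P.not_dvd_index
      refine Coprime.mem_of_pow_mem (n := (P : Subgroup C).index) ?_ (Subgroup.pow_index_mem _ _)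
      rw [Subgroup.orderOf_mk, hi']
      exact Nat.Coprime.pow_left _ (hs.out.coprime_iff_not_dvd.2 hnd)
    have hc := Subgroup.commute_of_normal_of_disjoint _ _ hPn hHn (disjoint_iff.2 hi) _ _ htP hw
    exact hc.map C.subtype

/-- Elements of order prime to `s` in the centralizer of an `s`-element of class size `m` are
central in it. -/
theorem Hyp.kPart (h : Hyp G m n) {s : ℕ} [hs : Fact s.Prime] (hsm : s ∣ m) {u : G}
    (hu : IsElt s u) (hum : (cent u).index = m) {w : G} (hw : w ∈ cent u) (hws : ¬ s ∣ orderOf w) :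
    cent u ≤ cent w := by
  obtain ⟨K, hK, hKn, hcomm⟩ := h.split hsm hu hum
  set C := cent u with hC
  have hKC : K ≤ C := fun x hx => ((hK x).1 hx).1
  suffices hab : ∀ a ∈ K, ∀ b ∈ K, Commute a b by
    intro g hg
    refine Transfer.mem_of_forall_primePow fun r hr y hy hyr => mem_cent.2 ?_
    have hyC : y ∈ C := zpowers_le.2 hg hy
    by_cases hrs : r = s
    · exact (hcomm y hyC (hrs ▸ hyr) w ((hK w).2 ⟨hw, hws⟩)).eq
    · exact (hab y ((hK y).2 ⟨hyC, IsElt.not_dvd hr hs.out hrs hyr⟩) w ((hK w).2 ⟨hw, hws⟩)).eq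
  by_contra hnab
  push Not at hnab
  obtain ⟨a₀, ha₀, b₀, hb₀, hab₀⟩ := hnab
  -- class sizes inside `K`
  have hcls : ∀ y : K, ((cent (y : G)).subgroupOf C).index = (cent y).index ∧
      ((cent y).index = 1 ∨ (cent y).index = n) := by
    intro y
    have hy := (hK y).1 y.2
    have hsupC : C = K ⊔ (cent (y : G) ⊓ C) := by
      refine le_antisymm (fun g hg => Transfer.mem_of_forall_primePow fun r hr z hz hzr => ?_)
        (sup_le hKC inf_le_right)
      have hzC : z ∈ C := zpowers_le.2 hg hz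
      by_cases hrs : r = s
      · exact mem_sup_right ⟨mem_cent.2 (hcomm z hzC (hrs ▸ hzr) _ y.2).eq, hzC⟩
      · exact mem_sup_left ((hK z).2 ⟨hzC, IsElt.not_dvd hr hs.out hrs hzr⟩)
    have hcard := PLocal.card_sup_mul_card_inf (H := K) (K := cent (y : G) ⊓ C)
      (inf_le_right.trans hKn)
    rw [← hsupC] at hcard
    have e : K ⊓ (cent (y : G) ⊓ C) = cent (y : G) ⊓ K := by
      rw [inf_left_comm, inf_eq_left.2 hKC]
    rw [e, ← card_inf_mul_relIndex (cent (y : G)) C,
      ← card_inf_mul_relIndex (cent (y : G)) K] at hcard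
    have heq : (cent (y : G)).relIndex C = (cent (y : G)).relIndex K := by
      refine Nat.eq_of_mul_eq_mul_left (Nat.mul_pos (Nat.card_pos (α := ↥(cent (y : G) ⊓ C)))
        (Nat.card_pos (α := ↥(cent (y : G) ⊓ K)))) ?_
      linear_combination hcard
    have hco : (orderOf u).Coprime (orderOf (y : G)) := IsElt.coprime_order hs.out hu hy.2
    have h2 := h.relIndex_cases (y := (y : G)) hum (cent_mul (mem_cent.1 hy.1).symm hco)
    rw [centralizer_subtype y]
    refine ⟨heq, ?_⟩
    change (cent (y : G)).relIndex K = 1 ∨ (cent (y : G)).relIndex K = n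
    rw [← heq]
    exact h2
  have hex : ∃ y : K, (cent y).index = n := by
    refine ⟨⟨a₀, ha₀⟩, (hcls _).2.resolve_left fun e => hab₀ ?_⟩
    have := mem_center_iff.1 (index_eq_one_iff.1 e) ⟨b₀, hb₀⟩
    exact (congrArg Subtype.val this).symm
  obtain ⟨q, hqF, a, hna, hP⟩ := S4134.result n h.hn (fun y : K => (hcls y).2) hex
  have hq := hqF.out
  have hqn : q ∣ n := by
    rw [hna]
    refine dvd_pow_self q ?_
    rintro rfl
    have := h.hn
    simp at hna
    omega
  have hqm : ¬ q ∣ m := h.not_dvd_m hq hqn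
  have hqs : q ≠ s := fun e => hqm (e ▸ hsm)
  have hKcen : ∀ z : K, ¬ q ∣ orderOf z → z ∈ center K := by
    intro z hz
    obtain ⟨P⟩ : Nonempty (Sylow q K) := inferInstance
    obtain ⟨-, ⟨N, hNn, hNc, hNab, hNP⟩, -⟩ := hP P
    obtain ⟨k, hk⟩ := IsPGroup.iff_card.1 P.2
    have hidx : N.index = q ^ k := by
      rw [index_eq_card_of_compl (P := (P : Subgroup K)) ?_ ?_, hk]
      · rw [inf_comm]; exact disjoint_iff.1 hNc.disjoint
      · rw [sup_comm]; exact hNc.sup_eq_top
    have hzN : z ∈ N := mem_of_index_pow hq hidx hz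
    have hle : (⊤ : Subgroup K) ≤ cent z := by
      rw [← hNc.sup_eq_top]
      refine sup_le (fun x hx => mem_cent.2 ?_) (fun x hx => mem_cent.2 (hNP z hzN x hx).symm)
      exact congrArg Subtype.val (hNab.is_comm.comm ⟨x, hx⟩ ⟨z, hzN⟩)
    exact mem_center_of_cent.2 (top_le_iff.1 hle)
  obtain ⟨t₀, ht₀z, ht₀q⟩ : ∃ t₀ : K, t₀ ∉ center K ∧ IsElt q t₀ := by
    by_contra! hno
    refine hab₀ ?_
    have hz : (⟨a₀, ha₀⟩ : K) ∈ center K := Transfer.mem_of_forall_primePow fun r hr y _ hyr => by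
      by_contra hy
      refine hy (hKcen y (IsElt.not_dvd hr hq (fun e => ?_) hyr))
      exact hno y hy (e ▸ hyr)
    exact (congrArg Subtype.val (mem_center_iff.1 hz ⟨b₀, hb₀⟩)).symm
  have hfull : cp q C = cp q (⊤ : Subgroup G) := cp_eq_top_iff.2 (hum ▸ hqm)
  obtain ⟨U, hUC, hUp, hUc⟩ := exists_le_card_cp q C
  rw [hfull] at hUc
  have hUK : U ≤ K := fun x hx =>
    (hK x).2 ⟨hUC hx, IsElt.not_dvd hq hs.out hqs (isElt_of_mem hUp hx)⟩
  have hUidx : ∀ {v : G}, U ≤ cent v → ¬ q ∣ (cent v).index := fun {v} hv =>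
    cp_eq_top_iff.1 (le_antisymm (cp_mono le_top) (hUc ▸ card_le_cp hUp hv))
  -- first fact
  have hF1 : ∀ y ∈ C, ¬ q ∣ orderOf y → (cent y).index ≠ m * n := by
    intro y hy hyq e
    refine hUidx (v := y) (fun k hk => mem_cent_symm ?_) (e ▸ hqn.mul_left m)
    refine Transfer.mem_of_forall_primePow fun r hr z hz hzr => mem_cent.2 ?_
    have hzC : z ∈ C := zpowers_le.2 hy hz
    by_cases hrs : r = s
    · exact (hcomm z hzC (hrs ▸ hzr) k (hUK hk)).eq
    · have hzK : z ∈ K := (hK z).2 ⟨hzC, IsElt.not_dvd hr hs.out hrs hzr⟩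
      obtain ⟨i, rfl⟩ := mem_zpowers_iff.1 hz
      have hzq : ¬ q ∣ orderOf (⟨y ^ i, hzK⟩ : K) := by
        rw [Subgroup.orderOf_mk]
        exact fun hd => hyq (hd.trans (orderOf_dvd_of_mem_zpowers (zpow_mem (mem_zpowers y) i)))
      exact (congrArg Subtype.val (mem_center_iff.1 (hKcen _ hzq) ⟨k, hUK hk⟩)).symm
  -- second fact
  have hF2 : ∀ t : G, IsElt q t → t ∉ center G → ∃ g : G, cent (g * t * g⁻¹) ≤ C := by
    intro t htq htz
    obtain ⟨g, hg⟩ := exists_conj_mem hUc (isPGroup_zpowers htq)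
    have ht' : g * t * g⁻¹ ∈ U := hg t (mem_zpowers t)
    have htz' : g * t * g⁻¹ ∉ center G := fun hh => htz (SylowTwoSizes.conj_mem_center.1 hh)
    rcases h.cases htz' with e | e
    · obtain ⟨V, hV, hVp, hVc⟩ := exists_le_card_cp q (cent (g * t * g⁻¹))
      rw [cp_eq_top_iff.2 (e ▸ hqm)] at hVc
      have hR : IsPGroup q ↥(V ⊔ zpowers (g * t * g⁻¹)) := by
        refine IsPGroup.to_sup_of_normal_left' hVp (isPGroup_zpowers (htq.conj g)) ?_
        refine (zpowers_le.2 ?_).trans (centralizer_le_normalizer _)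
        exact mem_centralizer_iff.2 fun x hx => mem_cent.1 (hV hx)
      obtain ⟨c, hc⟩ := exists_conj_mem hUc hR
      set t₂ := c * (g * t * g⁻¹) * c⁻¹ with ht₂
      have ht₂U : t₂ ∈ U := hc _ (mem_sup_right (mem_zpowers _))
      have hUt₂ : U ≤ cent t₂ := by
        have h1 : V.map (MulAut.conj c).toMonoidHom = U := by
          refine eq_of_le_of_card_ge ?_ ?_
          · rintro _ ⟨x, hx, rfl⟩; exact hc x (mem_sup_left hx)
          · rw [card_map_of_injective (MulAut.conj c).injective, hVc, hUc]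
        rw [← h1, ht₂, cent_conj]
        exact map_mono hV
      have hco : (orderOf u).Coprime (orderOf t₂) :=
        (IsElt.coprime hq hs.out hqs ((htq.conj g).conj c) hu).symm
      have ecent := cent_mul (mem_cent.1 (hUC ht₂U)).symm hco
      have hnc : u * t₂ ∉ center G :=
        noncentral_of_le (ecent.le.trans inf_le_left) (h.noncentral_of_m hum)
      rcases h.cases hnc with e' | e'
      · refine ⟨c * g, ?_⟩
        have h1 : cent (u * t₂) = C :=
          h.eq_of_le_m (ecent.le.trans inf_le_left) e' (h.noncentral_of_m hum)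
        have h2 : C ≤ cent t₂ := h1.ge.trans (ecent.le.trans inf_le_right)
        have h3 : cent t₂ = C := (h.eq_of_le_m h2 hum fun hh =>
          htz' (SylowTwoSizes.conj_mem_center.1 hh)).symm
        rw [show c * g * t * (c * g)⁻¹ = t₂ by rw [ht₂]; group, h3]
      · exact absurd (e' ▸ hqn.mul_left m : q ∣ (cent (u * t₂)).index)
          (hUidx (ecent ▸ le_inf hUC hUt₂))
    · exact ⟨g, h.cent_le_of_coprime e (mem_cent_symm (hUC ht'))
        (IsElt.coprime hq hs.out hqs (htq.conj g) hu)⟩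
  -- third fact
  have ht₀C : (t₀ : G) ∈ C := hKC t₀.2
  have ht₀q' : IsElt q (t₀ : G) := by
    obtain ⟨i, hi⟩ := ht₀q
    exact ⟨i, by rw [Subgroup.orderOf_coe, hi]⟩
  have ht₀G : (t₀ : G) ∉ center G := fun hh =>
    ht₀z (mem_center_iff.2 fun x => Subtype.ext (mem_center_iff.1 hh x))
  have hF3 : ∀ e : G, ¬ q ∣ orderOf e → (cent e).index ≠ m * n := by
    intro e heq he
    have hw0 : (cent (u * (t₀ : G))).index = m * n := by
      have ecent := cent_mul (mem_cent.1 ht₀C).symm
        (IsElt.coprime hq hs.out hqs ht₀q' hu).symm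
      refine (h.cases (noncentral_of_le (ecent.le.trans inf_le_left)
        (h.noncentral_of_m hum))).resolve_left fun e' => ht₀z ?_
      refine mem_center_iff.2 fun x => Subtype.ext ?_
      have h1 := h.eq_of_le_m (ecent.le.trans inf_le_left) e' (h.noncentral_of_m hum)
      exact mem_cent.1 ((h1.ge.trans (ecent.le.trans inf_le_right)) (hKC x.2))
    have ht₀w : (t₀ : G) ∈ cent (u * (t₀ : G)) :=
      mem_cent.2 (Commute.mul_right (mem_cent.1 ht₀C) (Commute.refl (t₀ : G))).eq
    obtain ⟨t, hte, htz, htq⟩ := exists_noncentral (q := q) (H := cent e) (by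
      rw [part_const_of_eq q (he.trans hw0.symm)]
      exact cp_center_lt ht₀G ht₀q' (center_le_cent _) ht₀w)
    obtain ⟨g, hg⟩ := hF2 t htq htz
    have he' : g * e * g⁻¹ ∈ C := hg (by
      rw [cent_conj]; exact ⟨e, mem_cent_symm hte, rfl⟩)
    refine hF1 _ he' ?_ ((index_conj g e).trans he)
    rwa [show g * e * g⁻¹ = MulAut.conj g e from rfl, MulEquiv.orderOf_eq]
  have hyp : ∀ x : G, (orderOf x).Coprime q → ¬ q ∣ (ConjClasses.mk x).carrier.ncard := by
    intro x hx
    rw [← Nat.card_coe_set_eq, ClassIndex.natCard_carrier_eq_index]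
    rcases h.size x with e | e | e
    · rw [e]; exact hq.not_dvd_one
    · rw [e]; exact hqm
    · exact absurd e (hF3 x (hq.coprime_iff_not_dvd.1 hx.symm))
  obtain ⟨P⟩ : Nonempty (Sylow q G) := inferInstance
  obtain ⟨hPn, H, hHn, -, hi, hsup⟩ := S4035.result hyp P
  obtain ⟨k, hk⟩ := IsPGroup.iff_card.1 P.2
  have ht₀P : (t₀ : G) ∈ (P : Subgroup G) := by
    refine Coprime.mem_of_pow_mem (n := (P : Subgroup G).index) ?_ (Subgroup.pow_index_mem _ _)
    exact IsElt.coprime_order hq ht₀q' P.not_dvd_index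
  have hle : H ≤ cent (t₀ : G) := fun x hx => mem_cent.2
    (Subgroup.commute_of_normal_of_disjoint _ _ hPn hHn (disjoint_iff.2 hi) _ _ ht₀P hx).eq.symm
  have hd : s ∣ q ^ k := by
    rw [← hk, ← index_eq_card_of_compl hi hsup]
    exact hsm.trans ((h.m_dvd ht₀G).trans (index_dvd_of_le hle))
  exact hqs ((Nat.prime_dvd_prime_iff_eq hs.out hq).1 (hs.out.dvd_of_dvd_pow hd)).symm

theorem Hyp.exists_noncentral_n (h : Hyp G m n) {q : ℕ} [hq : Fact q.Prime] (hqn : q ∣ n)
    {H : Subgroup G} (hfull : cp q H = cp q (⊤ : Subgroup G)) :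
    ∃ v ∈ H, v ∉ center G ∧ IsElt q v := by
  obtain ⟨y, hy⟩ := h.exMN
  refine exists_noncentral (hfull ▸ lt_of_le_of_ne (cp_mono le_top) fun e => ?_)
  have h1 : cp q (cent y) = cp q (⊤ : Subgroup G) :=
    le_antisymm (cp_mono le_top) (e.ge.trans (cp_mono (center_le_cent y)))
  exact cp_eq_top_iff.1 h1 (hy ▸ hqn.mul_left m)

/-- Every non-central element of the centralizer of a primary `s`-element (`s ∣ m`) of class
size `m` has that same centralizer. -/
theorem Hyp.good_eq (h : Hyp G m n) {s : ℕ} [hs : Fact s.Prime] (hsm : s ∣ m) {u : G}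
    (hu : IsElt s u) (hum : (cent u).index = m) {c : G} (hc : c ∈ cent u) (hcz : c ∉ center G) :
    cent c = cent u := by
  set C := cent u with hC
  obtain ⟨q, hq, hqn⟩ := Nat.exists_prime_and_dvd (n := n) (by have := h.hn; omega)
  haveI := Fact.mk hq
  have hqs : q ≠ s := fun e => h.not_dvd_n hs.out hsm (e ▸ hqn)
  obtain ⟨w, hwC, hwz, hwq⟩ := h.exists_noncentral_n (q := q) hqn
    (H := C) (cp_eq_top_iff.2 (hum ▸ h.not_dvd_m hq hqn))
  have hCw : C = cent w :=
    h.eq_of_le_m (h.kPart hsm hu hum hwC (IsElt.not_dvd hq hs.out hqs hwq)) hum hwz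
  have hab : C ≤ centralizer (C : Set G) := fun x hx => by
    refine Transfer.mem_of_forall_primePow fun r hr y hy hyr => mem_centralizer_iff.2 fun g hg => ?_
    have hyC : y ∈ C := zpowers_le.2 hx hy
    have hy' : ∀ {k : G}, k ∈ C → ¬ s ∣ orderOf k → Commute y k := fun {k} hk hks =>
      mem_cent.1 (h.kPart hsm hu hum hk hks hyC)
    suffices C ≤ cent y from mem_cent.1 (this hg)
    by_cases hrs : r = s
    · subst hrs
      by_cases hyz : y ∈ center G
      · rw [mem_center_of_cent.1 hyz]; exact le_top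
      -- `y` has class size `m`
      have hym : (cent y).index = m := (h.cases hyz).resolve_right fun e => by
        obtain ⟨U, hUC, hUp, hUc⟩ := exists_le_card_cp q C
        rw [cp_eq_top_iff.2 (hum ▸ h.not_dvd_m hq hqn)] at hUc
        have hUy : U ≤ cent y := fun k hk => mem_cent.2
          (hy' (hUC hk) (IsElt.not_dvd hq hs.out hqs (isElt_of_mem hUp hk))).eq.symm
        exact cp_eq_top_iff.1 (le_antisymm (cp_mono le_top) (hUc ▸ card_le_cp hUp hUy))
          (e ▸ hqn.mul_left m)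
      have hwy : w ∈ cent y := mem_cent.2 (hy' hwC (IsElt.not_dvd hq hs.out hqs hwq)).eq.symm
      exact (h.eq_of_le_m ((h.kPart hsm hyr hym hwy (IsElt.not_dvd hq hs.out hqs hwq)).trans hCw.ge) hym
        (h.noncentral_of_m hum)).ge
    · exact h.kPart hsm hu hum hyC (IsElt.not_dvd hr hs.out hrs hyr)
  exact (h.eq_of_le_m (fun g hg => mem_cent.2 (mem_centralizer_iff.1 (hab hc) g hg)) hum hcz).symm

end Cfsg.Agent.ThreeSizes
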