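import Cfsg.Agent.Lib.ThreeSizes.BadCore
import Cfsg.Agent.Lib.ThreeSizes.Split

/-!
# All primary elements for primes dividing `m` have class size `m n`: only one prime divides `m`,
and `n` is a prime power
-/

open Subgroup
open scoped commutatorElement

namespace Cfsg.Agent.ThreeSizes

set_option linter.unusedSectionVars false

variable {G : Type*} [Group G] [Finite G] {m n : ℕ}

local notation "cent" x:max => Subgroup.centralizer ({x} : Set _)

variable {s r : ℕ} [hs : Fact s.Prime] {x v : G} {P : Subgroup G}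

theorem Core.vs (c : Core G m n s r x v P) : IsElt s v := isElt_of_mem c.hP c.vP

theorem Core.vi (c : Core G m n s r x v P) : (cent v).index = m * n := c.all s c.hsp c.hsm v c.vs c.vz

theorem Core.normalizes (c : Core G m n s r x v P) : P ≤ normalizer ((cent v : Subgroup G) : Set G) :=
  fun g hg => normalizer_of_mod (c.hcomm g hg)

theorem Core.card_inf (c : Core G m n s r x v P) {H : Subgroup G} (hH : P ≤ normalizer (H : Set G)) :
    Nat.card ↥(P ⊓ H) = cp s H :=
  card_inf_normalised (Sylow.ofCard P (by rw [c.hPc, cp, Subgroup.card_top])) hH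

theorem Core.inf_core (c : Core G m n s r x v P) :
    P ⊓ (cent x).normalCore = P ⊓ cent v := by
  refine (eq_of_le_of_card_ge (inf_le_inf_left P c.hYW) ?_).symm
  rw [c.card_inf c.normalizes, c.card_inf (by rw [normalizer_eq_top]; exact le_top), c.hW]

theorem Core.card_S (c : Core G m n s r x v P) :
    Nat.card ↥(P ⊓ cent v) = s * cp s (center G) := by
  rw [c.card_inf c.normalizes, c.hsmall s c.hsp c.hsm]

theorem Core.S_le (c : Core G m n s r x v P) : P ⊓ cent v ≤ center G ⊔ zpowers v := by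
  set K := (P ⊓ center G) ⊔ zpowers v with hK
  have hle : K ≤ P ⊓ cent v :=
    sup_le (inf_le_inf_left P (center_le_cent v)) (zpowers_le.2 ⟨c.vP, self_mem v⟩)
  suffices K = P ⊓ cent v by
    rw [← this]; exact sup_le_sup_right inf_le_right _
  refine eq_of_le_of_card_ge hle ?_
  obtain ⟨i, hi⟩ := IsPGroup.iff_card.1 (c.hP.to_le (hle.trans inf_le_left))
  have hlt : Nat.card ↥(P ⊓ center G) < Nat.card K := by
    by_contra hge
    push Not at hge
    exact c.vz (eq_of_le_of_card_ge (le_sup_left : P ⊓ center G ≤ K) hge ▸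
      mem_sup_right (mem_zpowers v) : v ∈ P ⊓ center G).2
  rw [c.card_inf (by rw [normalizer_eq_top]; exact le_top), hi] at hlt
  rw [c.card_S, hi]
  unfold cp at hlt ⊢
  rw [← pow_succ']
  exact Nat.pow_le_pow_right hs.out.pos ((Nat.pow_lt_pow_iff_right hs.out.one_lt).1 hlt)

theorem Core.cent_S (c : Core G m n s r x v P) {w : G} (hw : w ∈ P ⊓ cent v) (hwz : w ∉ center G) :
    cent w = cent v := by
  have hle : cent v ≤ cent w := fun a ha => by
    have h1 : center G ⊔ zpowers v ≤ cent a :=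
      sup_le (center_le_cent a) (zpowers_le.2 (mem_cent_symm ha))
    exact mem_cent_symm (h1 (c.S_le hw))
  exact (c.hyp.eq_of_le_mn hle (c.all s c.hsp c.hsm w (isElt_of_mem c.hP hw.1) hwz)).1.symm

theorem Core.fix (c : Core G m n s r x v P) {g : G} (hg : g ∈ P) {w : G} (hw : w ∈ P ⊓ cent v) :
    ⁅g, w⁆ ∈ center G := by
  have key : center G ⊔ zpowers v ≤
      (cent ((g : G) : G ⧸ center G)).comap (QuotientGroup.mk' (center G)) := by
    refine sup_le (fun z hz => ?_) (zpowers_le.2 ?_)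
    · rw [mem_comap, mem_cent, QuotientGroup.mk'_apply, (QuotientGroup.eq_one_iff z).2 hz, one_mul, mul_one]
    · rw [mem_comap, mem_cent, eq_comm, ← commutatorElement_eq_one_iff_mul_comm]
      exact (map_commutatorElement (QuotientGroup.mk' (center G)) g v).symm.trans
        ((QuotientGroup.eq_one_iff _).2 (c.hcomm g hg))
  have h1 := mem_cent.1 (mem_comap.1 (key (c.S_le hw)))
  rw [eq_comm, ← commutatorElement_eq_one_iff_mul_comm] at h1
  exact (QuotientGroup.eq_one_iff _).1 ((map_commutatorElement (QuotientGroup.mk' (center G)) g w).trans h1)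

theorem Core.exists_not_mem (c : Core G m n s r x v P) : ∃ g ∈ P, g ∉ cent v := by
  refine SetLike.not_le_iff_exists.1 fun hle => ?_
  have h1 := card_le_cp c.hP hle
  rw [c.hPc, c.hPmul] at h1
  have h2 : 0 < cp s (cent v) := Nat.pow_pos hs.out.pos
  have := hs.out.two_le
  nlinarith

/-- An element of the core normalising `P ∩ C(v)` commutes with `v`. -/
theorem Core.commute_of_normalizes (c : Core G m n s r x v P) {h : G}
    (hW : h ∈ (cent x).normalCore) (hn : h ∈ normalizer ((P ⊓ cent v : Subgroup G) : Set G)) :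
    Commute h v := by
  set S := P ⊓ cent v with hS
  set W := (cent x).normalCore with hWdef
  have hSW : S ≤ W := c.inf_core.ge.trans inf_le_right
  have key : ∀ e ∈ W, e ∈ normalizer (S : Set G) → ⁅e, v⁆ ∈ center G → Commute e v := by
    intro e he hen hec
    obtain ⟨a, b, rfl, hab, ha, hb, has, hbs⟩ := exists_parts c.hsp e
    have haS : a ∈ S := by
      have hp : IsPGroup s ↥(S ⊔ zpowers a) :=
        IsPGroup.to_sup_of_normal_left' (c.hP.to_le inf_le_left) (isPGroup_zpowers has)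
          (zpowers_le.2 (zpowers_le.2 hen ha))
      have h1 := card_le_cp hp (sup_le hSW (zpowers_le.2 (zpowers_le.2 he ha)))
      rw [c.hW, ← c.card_inf c.normalizes] at h1
      exact (eq_of_le_of_card_ge (le_sup_left : S ≤ S ⊔ zpowers a) h1).ge
        (mem_sup_right (mem_zpowers a))
    have hav : Commute a v := mem_cent.1 haS.2
    have hbv : ⁅b, v⁆ ∈ center G := by
      rw [show ⁅b, v⁆ = ⁅a * b, v⁆ from ?_]
      · exact hec
      · rw [hab.eq, commutatorElement_def, commutatorElement_def,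
          show b * a * v * (b * a)⁻¹ = b * (a * v * a⁻¹) * b⁻¹ by group, hav.eq, mul_inv_cancel_right]
    exact hav.mul_left (commute_of_mod c.hsp c.vs hbs hbv).symm
  obtain ⟨g, hg, hgv⟩ := c.exists_not_mem
  have hgS : g ∈ normalizer (S : Set G) :=
    Coprime.mem_normalizer_of_forall fun a ha =>
      ⟨P.mul_mem (P.mul_mem hg ha.1) (P.inv_mem hg), (mem_normalizer_iff.1 (c.normalizes hg) a).1 ha.2⟩
  have hvS : v ∈ S := ⟨c.vP, self_mem v⟩
  set w := h⁻¹ * v * h with hw
  have hwS : w ∈ S := by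
    have := (mem_normalizer_iff.1 (inv_mem hn) v).1 hvS
    rwa [inv_inv] at this
  -- `e = h g h⁻¹ g⁻¹` fixes `v` modulo the centre
  set e := h * g * h⁻¹ * g⁻¹ with he
  have heW : e ∈ W := by
    rw [he, show h * g * h⁻¹ * g⁻¹ = h * (g * h⁻¹ * g⁻¹) by group]
    exact W.mul_mem hW ((inferInstance : W.Normal).conj_mem _ (W.inv_mem hW) g)
  have heN : e ∈ normalizer (S : Set G) := mul_mem (mul_mem (mul_mem hn hgS) (inv_mem hn)) (inv_mem hgS)
  obtain ⟨z₁, hz₁, e₁⟩ : ∃ z ∈ center G, g * v * g⁻¹ = z * v :=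
    ⟨_, c.fix hg hvS, by rw [commutatorElement_def, inv_mul_cancel_right]⟩
  obtain ⟨z₂, hz₂, e₂⟩ : ∃ z ∈ center G, g * w * g⁻¹ = z * w :=
    ⟨_, c.fix hg hwS, by rw [commutatorElement_def, inv_mul_cancel_right]⟩
  have e1' : g⁻¹ * v * g = z₁⁻¹ * v := by
    calc g⁻¹ * v * g = g⁻¹ * (z₁⁻¹ * (g * v * g⁻¹)) * g := by rw [e₁]; group
      _ = (g⁻¹ * z₁⁻¹) * (g * v) := by group
      _ = _ := by rw [mem_center_iff.1 (inv_mem hz₁) g⁻¹]; group
  have hev : e * v * e⁻¹ = z₁⁻¹ * z₂ * v := by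
    calc e * v * e⁻¹ = h * g * h⁻¹ * (g⁻¹ * v * g) * h * g⁻¹ * h⁻¹ := by rw [he]; group
      _ = h * g * (h⁻¹ * z₁⁻¹) * (v * h * g⁻¹ * h⁻¹) := by rw [e1']; group
      _ = h * g * (z₁⁻¹ * h⁻¹) * (v * h * g⁻¹ * h⁻¹) := by rw [mem_center_iff.1 (inv_mem hz₁) h⁻¹]
      _ = (h * g * z₁⁻¹) * (w * g⁻¹ * h⁻¹) := by rw [hw]; group
      _ = (z₁⁻¹ * (h * g)) * (w * g⁻¹ * h⁻¹) := by rw [mem_center_iff.1 (inv_mem hz₁) (h * g)]
      _ = z₁⁻¹ * (h * (g * w * g⁻¹)) * h⁻¹ := by group
      _ = z₁⁻¹ * ((h * z₂) * w) * h⁻¹ := by rw [e₂]; group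
      _ = z₁⁻¹ * ((z₂ * h) * w) * h⁻¹ := by rw [mem_center_iff.1 hz₂ h]
      _ = _ := by rw [hw]; group
  have hecv : Commute e v := by
    refine key e heW heN ?_
    rw [commutatorElement_def, hev, mul_inv_cancel_right]
    exact mul_mem (inv_mem hz₁) hz₂
  have hz : z₂ = z₁ := by
    have : z₁⁻¹ * z₂ * v = v := by rw [← hev, hecv.eq, mul_inv_cancel_right]
    exact (inv_mul_eq_one.1 (mul_eq_right.1 this)).symm
  -- `w v⁻¹` commutes with `g`
  have hd : Commute g (w * v⁻¹) := by
    have : g * (w * v⁻¹) * g⁻¹ = w * v⁻¹ := by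
      calc g * (w * v⁻¹) * g⁻¹ = (g * w * g⁻¹) * (g * v * g⁻¹)⁻¹ := by group
        _ = (z₁ * (w * v⁻¹)) * z₁⁻¹ := by rw [e₁, e₂, hz]; group
        _ = _ := by rw [← mem_center_iff.1 hz₁ (w * v⁻¹), mul_inv_cancel_right]
    exact mul_inv_eq_iff_eq_mul.1 this
  have hdz : w * v⁻¹ ∈ center G := by
    by_contra hdz
    exact hgv (c.cent_S (S.mul_mem hwS (S.inv_mem hvS)) hdz ▸ mem_cent.2 hd.eq)
  have h3 : Commute h⁻¹ v := key h⁻¹ (W.inv_mem hW) (inv_mem hn) (by
    rw [commutatorElement_def, inv_inv, ← hw]; exact hdz)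
  simpa using h3.inv_left

theorem Core.false_of_all_mn (c : Core G m n s r x v P) {b : ℕ} [hb : Fact b.Prime] (hbs : b ≠ s)
    (hall : ∀ u : G, IsElt b u → u ∉ center G → (cent u).index = m * n)
    {w : G} (hwb : IsElt b w) (hwz : w ∉ center G) : False := by
  have h := c.hyp
  haveI := Fact.mk c.hrp
  have hbr : b ≠ r := fun e => h.ne_mn (c.hxm.symm.trans (hall x (e ▸ c.hxr) (h.noncentral_of_m c.hxm)))
  have hbmn : b ∣ m * n := by
    rcases h.noncentral_prime hwz hwb with hd | hd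
    · exact hd.mul_right n
    · exact hd.mul_left m
  have hwi := hall w hwb hwz
  have hbY : cp b (center G) < cp b (cent v) := by
    rw [part_const_of_eq b (c.vi.trans hwi.symm)]
    exact cp_center_lt hwz hwb (center_le_cent w) (self_mem w)
  -- the order of a Sylow `b`-subgroup
  have hQmul : cp b (⊤ : Subgroup G) = b * cp b (cent v) := by
    obtain ⟨Q⟩ : Nonempty (Sylow b G) := inferInstance
    obtain ⟨vb, hvbQ, hvbz, hvbs, hcomm⟩ := exists_z2_sylow h (g := w) (hwi ▸ hbmn) Q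
    have hvbi := hall vb (isElt_of_mem Q.2 hvbQ) hvbz
    rw [part_const_of_eq b (c.vi.trans hvbi.symm)]
    exact h.card_eq_mul (b := s) hbs.symm Q.2 (card_sylow Q) hvbQ hvbs hcomm hvbi hbmn
      (h.part_lt c.hsm hvbz) fun t hts htz _ =>
      (part_const_of_eq b ((c.all s c.hsp c.hsm t hts htz).trans hvbi.symm)).le
  obtain ⟨T, hTY, hTp, hTc⟩ := exists_le_card_cp b (cent v)
  obtain ⟨Q, hQp, hQc, hTQ, hQT⟩ := card_sylow_le_normalizer hTp (by rw [hQmul, hTc])
  obtain ⟨t, htT, htz⟩ : ∃ t ∈ T, t ∉ center G := by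
    refine SetLike.not_le_iff_exists.1 fun hle => ?_
    have h1 := card_le_cp hTp hle
    omega
  have htb := isElt_of_mem hTp htT
  have hcT : ∀ a ∈ T, a ∉ center G → cent a = cent v := fun a ha haz =>
    (h.cent_eq_of_coprime c.vi (hall a (isElt_of_mem hTp ha) haz) (hTY ha)
      (IsElt.coprime c.hsp hb.out hbs.symm c.vs (isElt_of_mem hTp ha))).symm
  have hQY : Q ≤ normalizer ((cent v : Subgroup G) : Set G) := fun g hg =>
    normalizer_of_fix (hcT t htT htz)
      (hcT _ ((mem_normalizer_iff.1 (hQT hg) t).1 htT) fun hh => htz (SylowTwoSizes.conj_mem_center.1 hh))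
  -- `P ⊓ C(v)` is the central `s`-part of `C(v)`
  have hSeq : zPart s (cent v) = P ⊓ cent v := by
    have hle : P ⊓ cent v ≤ zPart s (cent v) := fun a ha => by
      rw [← hcT t htT htz]
      exact h.mem_zPart' (hall t htb htz) (IsElt.not_dvd hb.out c.hsp hbs htb)
        (by rw [hcT t htT htz]; exact ha.2) (isElt_of_mem c.hP ha.1)
    refine (eq_of_le_of_card_ge hle ?_).symm
    rw [c.card_inf c.normalizes]
    exact card_le_cp (fun a => let ⟨k, hk⟩ := a.2.2.2; ⟨k, Subtype.ext hk⟩) fun a ha => ha.1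
  have hQS : Q ≤ normalizer ((P ⊓ cent v : Subgroup G) : Set G) := hSeq ▸ zPart_normalizer s hQY
  obtain ⟨g, hgQ, hgv⟩ : ∃ g ∈ Q, g ∉ cent v := by
    refine SetLike.not_le_iff_exists.1 fun hle => ?_
    have h1 := card_le_cp hQp hle
    rw [hQc, hQmul] at h1
    have h2 : 0 < cp b (cent v) := Nat.pow_pos hb.out.pos
    have := hb.out.two_le
    nlinarith
  -- first congruence
  have hbs1 : s ≡ 1 [MOD b] := by
    obtain ⟨k, hk⟩ := isElt_of_mem hQp hgQ
    obtain ⟨F, hFS, hF1, hF2, hmod⟩ := Transfer.card_fixed_modEq (P ⊓ cent v) (q := b) (y := g) (hQS hgQ) hk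
    have hF : F = P ⊓ center G := by
      ext a
      refine ⟨fun ha => ⟨(hFS ha).1, ?_⟩, fun ha => hF2 a ⟨ha.1, center_le_cent v ha.2⟩
        (by rw [mem_center_iff.1 ha.2 g, mul_inv_cancel_right])⟩
      by_contra haz
      exact hgv (c.cent_S (hFS ha) haz ▸ mem_cent.2 (mul_inv_eq_iff_eq_mul.1 (hF1 a ha)))
    rw [c.card_S, hF, c.card_inf (by rw [normalizer_eq_top]; exact le_top)] at hmod
    refine Nat.ModEq.cancel_right_of_coprime (c := cp s (center G)) ?_ (by rw [one_mul]; exact hmod)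
    exact Nat.Coprime.pow_right _ ((Nat.coprime_primes hb.out c.hsp).2 hbs)
  have hgW : g ∉ (cent x).normalCore := fun hgW =>
    hgv (mem_cent.2 (c.commute_of_normalizes hgW (hQS hgQ)).eq)
  have hgb := isElt_of_mem hQp hgQ
  have hgi := hall g hgb fun hz => hgv (center_le_cent v hz)
  have hTsmall : cp b (cent v) = b * cp b (center G) := by
    have e := part_const_of_eq b (c.vi.trans hgi.symm)
    rw [e]
    refine cp_eq_mul_center h c.hrp hbr c.hxr hall hgb hgW (by rw [← e, hQmul]) ?_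
    rw [← e]; exact cp_mono c.hYW
  -- second congruence
  obtain ⟨g', hg'P, hg'v⟩ := c.exists_not_mem
  have hsb1 : b ≡ 1 [MOD s] := by
    obtain ⟨k, hk⟩ := isElt_of_mem c.hP hg'P
    obtain ⟨F, hFS, hF1, hF2, hmod⟩ := Transfer.card_fixed_modEq (zPart b (cent v)) (q := s) (y := g')
      (zPart_normalizer b c.normalizes hg'P) hk
    have hall' : ∀ a ∈ cent v, IsElt b a → a ∈ zPart b (cent v) := fun a ha hab =>
      h.mem_zPart' c.vi (IsElt.not_dvd c.hsp hb.out hbs.symm c.vs) ha hab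
    have hzp : IsPGroup b (zPart b (cent v)) :=
      fun a => let ⟨k, hk⟩ := a.2.2.2; ⟨k, Subtype.ext hk⟩
    have hT : Nat.card (zPart b (cent v)) = cp b (cent v) :=
      card_eq_cp hzp (hTc ▸ card_le_of_le fun a ha => hall' a (hTY ha) (isElt_of_mem hTp ha))
        fun a ha => ha.1
    have hFz : F ≤ center G := fun a ha => by
      by_contra haz
      have ha' := mem_zPart.1 (hFS ha)
      refine hg'v ?_
      rw [h.cent_eq_of_coprime c.vi (hall a ha'.2.2 haz) ha'.1
        (IsElt.coprime c.hsp hb.out hbs.symm c.vs ha'.2.2)]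
      exact mem_cent.2 (mul_inv_eq_iff_eq_mul.1 (hF1 a ha))
    have hF : Nat.card F = cp b (center G) := by
      refine card_eq_cp (hzp.to_le hFS) ?_ hFz
      obtain ⟨U, hUZ, hUp, hUc⟩ := exists_le_card_cp b (center G)
      rw [← hUc]
      exact card_le_of_le fun a ha => hF2 a (hall' a (center_le_cent v (hUZ ha)) (isElt_of_mem hUp ha))
        (by rw [mem_center_iff.1 (hUZ ha) g', mul_inv_cancel_right])
    rw [hT, hF, hTsmall] at hmod
    refine Nat.ModEq.cancel_right_of_coprime (c := cp b (center G)) ?_ (by rw [one_mul]; exact hmod)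
    exact Nat.Coprime.pow_right _ ((Nat.coprime_primes c.hsp hb.out).2 hbs.symm)
  have h1 := (Nat.modEq_iff_dvd' (by have := c.hsp.two_le; omega)).1 hbs1.symm
  have h2 := (Nat.modEq_iff_dvd' (by have := hb.out.two_le; omega)).1 hsb1.symm
  have := Nat.le_of_dvd (by have := c.hsp.two_le; omega) h1
  have := Nat.le_of_dvd (by have := hb.out.two_le; omega) h2
  omega

theorem Core.m_eq (c : Core G m n s r x v P) : m = s := by
  have huniq : ∀ {t : ℕ}, t.Prime → t ∣ m → t = s := fun {t} ht htm => by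
    by_contra hne
    haveI := Fact.mk ht
    obtain ⟨w, -, hwz, hwt⟩ := exists_noncentral (c.hyp.part_lt (s := t) htm c.vz)
    exact c.false_of_all_mn hne (c.all t ht htm) hwt hwz
  have hpow := Nat.eq_prime_pow_of_unique_prime_dvd (p := s) (n := m) (by have := c.hyp.hm0; omega) huniq
  have h1 := c.hPmul
  rw [← c.hyp.part_const c.hsp c.hsm (c.hyp.noncentral_of_m c.hxm) c.vz, cp, cp, Subgroup.card_top,
    ← pow_succ', (Nat.pow_right_injective hs.out.two_le).eq_iff, ← factorization_add s (cent x), c.hxm,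
    hpow, hs.out.factorization_pow, Finsupp.single_eq_same] at h1
  rw [hpow, show m.primeFactorsList.length = 1 by omega, pow_one]

theorem Core.exists_m_elem (c : Core G m n s r x v P) {l : ℕ} [hl : Fact l.Prime] (hln : l ∣ n) :
    ∃ w : G, IsElt l w ∧ (cent w).index = m := by
  obtain ⟨w, -, hwz, hwl⟩ := c.hyp.exists_noncentral_n (q := l) hln (H := (⊤ : Subgroup G)) rfl
  by_contra! hno
  refine c.false_of_all_mn (fun e => c.hyp.not_dvd_n c.hsp c.hsm (e ▸ hln)) (fun u hu huz => ?_) hwl hwz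
  exact (c.hyp.cases huz).resolve_left (hno u hu)

theorem Core.marker (c : Core G m n s r x v P) {l : ℕ} [hl : Fact l.Prime] (hln : l ∣ n) (hlr : l ≠ r) :
    ∃ w : G, IsElt l w ∧ cent w = cent x := by
  have h := c.hyp
  obtain ⟨w, hwl, hwi⟩ := c.exists_m_elem hln
  have hlm := h.not_dvd_m hl.out hln
  obtain ⟨U, hUC, hUp, hUc⟩ := exists_le_card_cp l (cent x)
  rw [cp_eq_top_iff.2 (c.hxm ▸ hlm)] at hUc
  obtain ⟨V, hV, hVp, hVc⟩ := exists_le_card_cp l (cent w)
  rw [cp_eq_top_iff.2 (hwi ▸ hlm)] at hVc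
  have hR : IsPGroup l ↥(V ⊔ zpowers w) := by
    refine IsPGroup.to_sup_of_normal_left' hVp (isPGroup_zpowers hwl) ?_
    refine (zpowers_le.2 ?_).trans (centralizer_le_normalizer _)
    exact mem_centralizer_iff.2 fun a ha => mem_cent.1 (hV ha)
  obtain ⟨g, hg⟩ := exists_conj_mem hUc hR
  set w' := g * w * g⁻¹ with hw'
  have hw'U : w' ∈ U := hg _ (mem_sup_right (mem_zpowers _))
  have hUw' : U ≤ cent w' := by
    have h1 : V.map (MulAut.conj g).toMonoidHom = U := by
      refine eq_of_le_of_card_ge ?_ ?_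
      · rintro _ ⟨a, ha, rfl⟩; exact hg a (mem_sup_left ha)
      · rw [card_map_of_injective (MulAut.conj g).injective, hVc, hUc]
    rw [← h1, hw', cent_conj]
    exact map_mono hV
  have hco : (orderOf x).Coprime (orderOf w') := IsElt.coprime c.hrp hl.out hlr.symm c.hxr (hwl.conj g)
  have ecent := cent_mul (mem_cent.1 (hUC hw'U)).symm hco
  have hnc : x * w' ∉ center G :=
    noncentral_of_le (ecent.le.trans inf_le_left) (h.noncentral_of_m c.hxm)
  have hi : (cent (x * w')).index = m := (h.cases hnc).resolve_right fun e => by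
    have hd : l ∣ (cent (x * w')).index := e ▸ hln.mul_left m
    exact cp_eq_top_iff.1 (le_antisymm (cp_mono le_top)
      (hUc ▸ card_le_cp hUp (ecent ▸ le_inf hUC hUw'))) hd
  refine ⟨w', hwl.conj g, ?_⟩
  have h1 : cent (x * w') = cent x :=
    h.eq_of_le_m (ecent.le.trans inf_le_left) hi (h.noncentral_of_m c.hxm)
  exact (h.eq_of_le_m (h1.ge.trans (ecent.le.trans inf_le_right)) c.hxm
    (h.noncentral_of_m (by rw [hw', index_conj, hwi]))).symm

theorem Core.n_dvd_eq (c : Core G m n s r x v P) {l : ℕ} (hl : l.Prime) (hln : l ∣ n) : l = r := by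
  by_contra hlr
  haveI := Fact.mk hl
  haveI := Fact.mk c.hrp
  have h := c.hyp
  obtain ⟨wl, hwll, hwlc⟩ := c.marker hln hlr
  have hls : l ≠ s := fun e => h.not_dvd_n c.hsp c.hsm (e ▸ hln)
  have hrs : r ≠ s := fun e => h.not_dvd_n c.hsp c.hsm (e ▸ c.hrn)
  set C := cent x with hC
  have hσ : ∀ {a : G}, a ∈ C → a ∉ center G → IsElt s a → cent a ≤ C ∧ (cent a).index = m * n := by
    intro a ha haz has
    exact ⟨h.cent_le_of_coprime (c.all s c.hsp c.hsm a has haz) (mem_cent_symm ha)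
      (IsElt.coprime c.hsp c.hrp hrs.symm has c.hxr), c.all s c.hsp c.hsm a has haz⟩
  have hrel : ∀ {a : G}, (cent a).index = m * n → cent a ≤ C → ((cent a).subgroupOf C).index = n := by
    intro a ha hle
    have h1 := relIndex_mul_index hle
    rw [ha, c.hxm, mul_comm m] at h1
    exact Nat.eq_of_mul_eq_mul_right h.hm0 h1
  have hprimary : ∀ {p : ℕ}, p.Prime → p ≠ s → ∀ {y : G}, y ∈ C → IsElt p y →
      ∃ z : G, (¬ s ∣ orderOf z) ∧ z ∈ C ∧ cent z = C ⊓ cent y := by
    intro p hp hps y hy hyp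
    obtain ⟨u, j, hj, hju, hu, hucp⟩ : ∃ (u : G) (j : ℕ), j.Prime ∧ IsElt j u ∧ cent u = C ∧ j ≠ p ∧ j ≠ s := by
      by_cases hpr : p = r
      · exact ⟨wl, l, hl, hwll, hwlc, hpr ▸ hlr, hls⟩
      · exact ⟨x, r, c.hrp, c.hxr, rfl, Ne.symm hpr, hrs⟩
    have hcu : Commute u y := (mem_cent.1 (hu ▸ hy : y ∈ cent u)).symm
    have hco := IsElt.coprime hj hp hucp.1 hju hyp
    refine ⟨u * y, ?_, C.mul_mem (hu ▸ self_mem u) hy, by rw [cent_mul hcu hco, hu]⟩
    rw [hcu.orderOf_mul_eq_mul_orderOf_of_coprime hco, c.hsp.dvd_mul]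
    exact not_or_intro (IsElt.not_dvd hj c.hsp hucp.2 hju) (IsElt.not_dvd hp c.hsp hps hyp)
  have hcls : ∀ y : C, (cent y).index = 1 ∨ (cent y).index = n := by
    intro y
    rw [centralizer_subtype]
    obtain ⟨a, b, hab, hc, ha, hb, has, hbs⟩ := exists_parts c.hsp (y : G)
    have hco : (orderOf a).Coprime (orderOf b) := IsElt.coprime_order c.hsp has hbs
    have hcy : cent (y : G) = cent a ⊓ cent b := by rw [hab, cent_mul hc hco]
    have haC : a ∈ C := zpowers_le.2 y.2 ha
    have hbC : b ∈ C := zpowers_le.2 y.2 hb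
    by_cases haz : a ∈ center G
    · rw [hcy, mem_center_of_cent.1 haz, top_inf_eq]
      by_cases hcent : C ≤ cent b
      · left; rw [subgroupOf_eq_top.2 hcent, index_top]
      right
      obtain ⟨p, hp, bp, hbp, hbpe, hbpC⟩ : ∃ p : ℕ, p.Prime ∧ ∃ bp : G, bp ∈ zpowers b ∧
          IsElt p bp ∧ ¬ C ≤ cent bp := by
        by_contra! hno
        refine hcent fun a ha => mem_cent_symm ?_
        exact Transfer.mem_of_forall_primePow fun q hq u hu huq =>
          mem_cent_symm (hno q hq u hu huq ha)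
      have hps : p ≠ s := fun e => hbpC (by
        obtain ⟨k, hk⟩ := hbpe
        have hd : orderOf bp ∣ orderOf b := orderOf_dvd_of_mem_zpowers hbp
        rcases Nat.eq_zero_or_pos k with rfl | hk0
        · rw [pow_zero, orderOf_eq_one_iff] at hk
          subst hk
          exact fun a _ => mem_cent.2 (Commute.one_right a).eq
        · exact absurd ((e ▸ hk ▸ dvd_pow_self p hk0.ne' : s ∣ orderOf bp).trans hd) hbs)
      have hbpC' : bp ∈ C := zpowers_le.2 hbC hbp
      obtain ⟨z, hzs, hzC, hzc⟩ := hprimary hp hps hbpC' hbpe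
      have hzi : (cent z).index = m * n := by
        have hzx : z ∉ center G := noncentral_of_le (hzc.le.trans inf_le_left) (h.noncentral_of_m c.hxm)
        refine (h.cases hzx).resolve_left fun e => hbpC ?_
        exact (h.eq_of_le_m (hzc.le.trans inf_le_left) e (h.noncentral_of_m c.hxm)).ge.trans
          (hzc.le.trans inf_le_right)
      obtain ⟨σ, hσz, hσn, hσs⟩ := exists_noncentral (h.part_lt (s := s) c.hsm
        (noncentral_of_le (hzc.le.trans inf_le_left) (h.noncentral_of_m c.hxm) : z ∉ center G))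
      have hσC : σ ∈ C := (hzc.le hσz).1
      have hσe : cent σ = cent z := h.cent_eq_of_coprime (hσ hσC hσn hσs).2 hzi
        (mem_cent_symm hσz) (IsElt.coprime_order c.hsp hσs hzs)
      have hbz : b ∈ cent σ := hσe ▸ hzc.ge ⟨hbC,
        mem_cent.2 (Commute.eq (by
          obtain ⟨i, rfl⟩ := mem_zpowers_iff.1 hbp
          exact (Commute.refl b).zpow_right i))⟩
      have hle : cent σ ≤ cent b := h.cent_le_of_coprime (hσ hσC hσn hσs).2 hbz
        (IsElt.coprime_order c.hsp hσs hbs)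
      have e : (cent b).subgroupOf C = (cent z).subgroupOf C := by
        ext a
        simp only [mem_subgroupOf]
        refine ⟨fun ha' => hzc.ge ⟨a.2, cent_le_of_mem_zpowers hbp ha'⟩, fun ha' => hle (hσe ▸ ha')⟩
      rw [e]
      exact hrel hzi (hzc.le.trans inf_le_left)
    · obtain ⟨hle, hi⟩ := hσ haC haz has
      have hba : b ∈ cent a := mem_cent.2 hc.eq.symm
      have e : cent (y : G) = cent a := by
        rw [hcy, inf_eq_left]
        exact h.cent_le_of_coprime hi hba hco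
      rw [e]
      exact Or.inr (hrel hi hle)
  have hex : ∃ y : C, (cent y).index = n := by
    obtain ⟨σ, hσx, hσn, hσs⟩ := exists_noncentral (h.part_lt (s := s) c.hsm (h.noncentral_of_m c.hxm))
    refine ⟨⟨σ, hσx⟩, ?_⟩
    rw [centralizer_subtype]
    exact hrel (hσ hσx hσn hσs).2 (hσ hσx hσn hσs).1
  obtain ⟨p, hp, a, hna, -⟩ := S4134.result n h.hn hcls hex
  have h1 := (Nat.prime_dvd_prime_iff_eq hl hp.out).1 (hl.dvd_of_dvd_pow (hna ▸ hln))
  have h2 := (Nat.prime_dvd_prime_iff_eq c.hrp hp.out).1 (c.hrp.dvd_of_dvd_pow (hna ▸ c.hrn))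
  exact hlr (h1.trans h2.symm)

end Cfsg.Agent.ThreeSizes
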