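import Cfsg.Agent.Lib.ThreeSizes.GoodNormal
import Cfsg.Agent.Lib.PGroupFour.Basic

/-!
# The structure when some primary element of order dividing a power of `m` has class size `m`
-/

open Subgroup
open scoped commutatorElement

namespace Cfsg.Agent.ThreeSizes

set_option linter.unusedSectionVars false

variable {G : Type*} [Group G] [Finite G] {m n : ℕ}

local notation "cent" x:max => Subgroup.centralizer ({x} : Set _)

theorem GoodC.cent_eq_of_index {C : Subgroup G} (hC : GoodC G m n C) [hn : C.Normal] {x : G}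
    (hx : (cent x).index = m) : cent x = C := by
  obtain ⟨g, hg⟩ := hC.cls x hx
  have e : cent x = C.map (MulAut.conj g⁻¹).toMonoidHom := by
    rw [← hg, ← cent_conj]; congr 2; group
  rw [e]
  exact PLocal.mem_normalizer_iff_map_eq.1 (by rw [normalizer_eq_top]; exact mem_top _)

theorem GoodC.mn_of_not_mem {C : Subgroup G} (hC : GoodC G m n C) [C.Normal] (h : Hyp G m n) {y : G}
    (hy : y ∉ C) : (cent y).index = m * n :=
  (h.cases fun hz => hy (hC.zle hz)).resolve_left fun e => hy (hC.cent_eq_of_index e ▸ self_mem y)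

theorem GoodC.inf_cent {C : Subgroup G} (hC : GoodC G m n C) {y : G} (hy : y ∉ C) {c : G}
    (hc : c ∈ C) (hcy : c ∈ cent y) : c ∈ center G := by
  by_contra hcz
  exact hy (hC.eq c hc hcz ▸ mem_cent_symm hcy)

theorem GoodC.exists_not_mem {C : Subgroup G} (hC : GoodC G m n C) {s : ℕ} [hs : Fact s.Prime]
    (hsm : s ∣ m) (P : Sylow s G) : ∃ y ∈ (P : Subgroup G), y ∉ C := by
  refine SetLike.not_le_iff_exists.1 fun hle => ?_
  exact P.not_dvd_index ((hC.idx ▸ hsm : s ∣ C.index).trans (index_dvd_of_le hle))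

theorem GoodC.part_lt {C : Subgroup G} (hC : GoodC G m n C) (h : Hyp G m n) {s : ℕ}
    [hs : Fact s.Prime] (hsm : s ∣ m) : cp s (center G) < cp s C := by
  obtain ⟨q, hq, hqn⟩ := Nat.exists_prime_and_dvd (n := n) (by have := h.hn; omega)
  haveI := Fact.mk hq
  obtain ⟨w, hwC, hwz, -⟩ := h.exists_noncentral_n (q := q) hqn
    (H := C) (cp_eq_top_iff.2 (hC.idx ▸ h.not_dvd_m hq hqn))
  rw [← hC.eq w hwC hwz]
  exact h.part_lt hsm hwz

theorem GoodC.inf_not_le {C : Subgroup G} (hC : GoodC G m n C) [C.Normal] (h : Hyp G m n) {s : ℕ}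
    [hs : Fact s.Prime] (hsm : s ∣ m) (P : Sylow s G) : ¬ (P : Subgroup G) ⊓ C ≤ center G := fun hle => by
  have h1 := card_le_cp (P.2.to_le inf_le_left) hle
  rw [card_inf_normalised P (by rw [normalizer_eq_top]; exact le_top)] at h1
  have h2 := hC.part_lt h (s := s) hsm
  omega

theorem GoodC.subsingleton_primes {C : Subgroup G} (hC : GoodC G m n C) [C.Normal] (h : Hyp G m n)
    {s s' : ℕ} (hs : s.Prime) (hsm : s ∣ m) (hs' : s'.Prime) (hs'm : s' ∣ m) : s' = s := by
  by_contra hne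
  haveI := Fact.mk hs
  haveI := Fact.mk hs'
  obtain ⟨P⟩ : Nonempty (Sylow s G) := inferInstance
  obtain ⟨y, hyP, hyC⟩ := hC.exists_not_mem hsm P
  have hyz : y ∉ center G := fun hz => hyC (hC.zle hz)
  obtain ⟨w, hwy, hwz, hws⟩ := exists_noncentral (h.part_lt (s := s') hs'm hyz)
  obtain ⟨v, hv, hvz, -, hcomm⟩ := exists_z2 P.2 (inf_le_left (b := C))
    ((le_inf le_normalizer (by rw [normalizer_eq_top C]; exact le_top)).trans
      fun g hg => Coprime.mem_normalizer_of_forall fun x hx =>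
        ⟨(mem_normalizer_iff.1 hg.1 x).1 hx.1, (mem_normalizer_iff.1 hg.2 x).1 hx.2⟩)
    (hC.inf_not_le h hsm P)
  have hd : ⁅w, v⁆ ∈ center G := by
    refine hC.inf_cent hyC ?_ ?_
    · rw [commutatorElement_def]
      exact C.mul_mem (Subgroup.Normal.conj_mem inferInstance v hv.2 w) (C.inv_mem hv.2)
    · obtain ⟨z, hzc, e⟩ : ∃ z ∈ center G, y * v * y⁻¹ = z * v :=
        ⟨_, hcomm y hyP, by rw [commutatorElement_def, inv_mul_cancel_right]⟩
      have hyw : y * w = w * y := (mem_cent.1 hwy).symm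
      have e2 : y * (w * v * w⁻¹) * y⁻¹ = z * (w * v * w⁻¹) := by
        calc y * (w * v * w⁻¹) * y⁻¹ = (y * w) * v * (y * w)⁻¹ := by group
          _ = w * (y * v * y⁻¹) * w⁻¹ := by rw [hyw]; group
          _ = (w * z) * v * w⁻¹ := by rw [e]; group
          _ = _ := by rw [mem_center_iff.1 hzc w]; group
      rw [mem_cent, eq_comm, ← mul_inv_eq_iff_eq_mul, commutatorElement_def]
      calc y * (w * v * w⁻¹ * v⁻¹) * y⁻¹ = (y * (w * v * w⁻¹) * y⁻¹) * (y * v * y⁻¹)⁻¹ := by group
        _ = z * (w * v * w⁻¹ * v⁻¹) * z⁻¹ := by rw [e2, e]; group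
        _ = _ := by rw [← mem_center_iff.1 hzc (w * v * w⁻¹ * v⁻¹), mul_inv_cancel_right]
  have hc := commute_of_mod hs (isElt_of_mem P.2 hv.1) (IsElt.not_dvd hs' hs hne hws) hd
  exact hwz (hC.inf_cent hyC (hC.eq v hv.2 hvz ▸ mem_cent.2 hc.eq.symm) hwy)

theorem GoodC.data {C : Subgroup G} (hC : GoodC G m n C) [C.Normal] (h : Hyp G m n) :
    m.Prime ∧ (∀ [Fact m.Prime] (P : Sylow m G), Nat.card P = m * cp m C) := by
  obtain ⟨s, hs, hsm⟩ := Nat.exists_prime_and_dvd (n := m) (by have := h.hm; omega)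
  haveI := Fact.mk hs
  have huniq : ∀ r : ℕ, r.Prime → r ∣ m → r = s := fun r hr hrm => hC.subsingleton_primes h hs hsm hr hrm
  obtain ⟨q, hq, hqn⟩ := Nat.exists_prime_and_dvd (n := n) (by have := h.hn; omega)
  haveI := Fact.mk hq
  have hqs : q ≠ s := fun e => h.not_dvd_n hs hsm (e ▸ hqn)
  have key : ∀ P : Sylow s G, Nat.card P = s * cp s C := by
    intro P
    have hPC : (P : Subgroup G) ≤ normalizer (C : Set G) := by rw [normalizer_eq_top]; exact le_top
    obtain ⟨v, hv, hvz, hvs, hcomm⟩ := exists_z2 P.2 (inf_le_left (b := C))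
      ((le_inf le_normalizer hPC).trans
        fun g hg => Coprime.mem_normalizer_of_forall fun x hx =>
          ⟨(mem_normalizer_iff.1 hg.1 x).1 hx.1, (mem_normalizer_iff.1 hg.2 x).1 hx.2⟩)
      (hC.inf_not_le h hsm P)
    haveI := isMulCommutative_zPart q C
    have hcv := hC.eq v hv.2 hvz
    have hcard : Nat.card P = s * Nat.card ↥((P : Subgroup G) ⊓ cent v) := by
      refine relIndex_eq_prime P.2 (T := zPart q C) hvs hcomm ?_ (zPart_normalizer q hPC)
        (fun g hg t ht => hC.comm (hcv ▸ hg.2) ht.1) (fun t ht => ?_) ?_ ?_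
      · rw [hcv]
        obtain ⟨y, hyP, hyC⟩ := hC.exists_not_mem hsm P
        exact fun hle => hyC (hle hyP)
      · exact IsElt.not_dvd hq hs hqs (mem_zPart.1 ht).2.2
      · intro g _ hg t ht hgt
        rw [hcv] at hg
        exact hC.inf_cent hg ht.1 (mem_cent.2 hgt.eq.symm)
      · obtain ⟨w, hwC, hwz, hwq⟩ := h.exists_noncentral_n (q := q) hqn
          (H := C) (cp_eq_top_iff.2 (hC.idx ▸ h.not_dvd_m hq hqn))
        exact fun hle => hwz (hle (mem_zPart.2 ⟨hwC,
          mem_centralizer_iff.2 fun g hg => (hC.comm hg hwC).eq, hwq⟩))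
    rwa [hcv, card_inf_normalised P hPC] at hcard
  obtain ⟨P⟩ : Nonempty (Sylow s G) := inferInstance
  have h1 := key P
  rw [card_sylow, cp, cp, Subgroup.card_top, ← pow_succ', (Nat.pow_right_injective hs.two_le).eq_iff,
    ← factorization_add s C, hC.idx] at h1
  have hm' : m = s := by
    have hpow := Nat.eq_prime_pow_of_unique_prime_dvd (p := s) (n := m) (by have := h.hm0; omega)
      (fun {d} hd hdm => huniq d hd hdm)
    rw [hpow, hs.factorization_pow, Finsupp.single_eq_same] at h1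
    rw [hpow, show m.primeFactorsList.length = 1 by omega, pow_one]
  subst hm'
  exact ⟨hs, fun P => key P⟩

theorem GoodC.conclusion {C : Subgroup G} (hC : GoodC G m n C) (h : Hyp G m n) :
    m.Prime ∧ m ∣ n - 1 ∧
    (∃ M : Subgroup G, M.Normal ∧ (M : Set G) = {x : G | (cent x).index = 1 ∨ (cent x).index = m} ∧
      M.index = m ∧ IsMulCommutative M) ∧
    (∃ N : Subgroup G, N.Normal ∧ (Nat.card N).Coprime m ∧ ∃ a : ℕ, N.index = m ^ a) ∧
    ∀ P : Sylow m G, Nat.card (commutator (P : Subgroup G)) = m := by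
  haveI hCn := hC.normal h
  obtain ⟨hm, hPc⟩ := hC.data h
  haveI := Fact.mk hm
  -- order of the centralizer of an element outside `C`
  have hcentY : ∀ y ∉ C, Nat.card (cent y) = m * Nat.card (center G) := by
    intro y hy
    have h1 := card_inf_mul_relIndex C (cent y)
    have e : C ⊓ cent y = center G :=
      le_antisymm (fun c hc => hC.inf_cent hy hc.1 hc.2) (le_inf hC.zle (center_le_cent y))
    have h2 : C.relIndex (cent y) = m := by
      refine ((Nat.dvd_prime hm).1 (hC.idx ▸ C.relIndex_dvd_index_of_normal (cent y))).resolve_left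
        fun h1 => hy (relIndex_eq_one.1 h1 (self_mem y))
    rw [e, h2, mul_comm] at h1
    exact h1.symm
  obtain ⟨P₀⟩ : Nonempty (Sylow m G) := inferInstance
  obtain ⟨y, hyP, hyC⟩ := hC.exists_not_mem dvd_rfl P₀
  have hcardC : Nat.card C = m * n * Nat.card (center G) := by
    have h1 := (cent y).card_mul_index
    rw [hcentY y hyC, hC.mn_of_not_mem h hyC, ← C.card_mul_index, hC.idx] at h1
    exact Nat.eq_of_mul_eq_mul_right h.hm0 (by rw [← h1]; ring)
  -- the Sylow part of `C`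
  have hcpC : cp m C = m * cp m (center G) := by
    rw [cp, cp, hcardC, Nat.factorization_mul (mul_ne_zero hm.ne_zero (by have := h.hn; omega))
      Nat.card_pos.ne', Nat.factorization_mul hm.ne_zero (by have := h.hn; omega)]
    simp only [Finsupp.add_apply, hm.factorization_self,
      Nat.factorization_eq_zero_of_not_dvd (h.not_dvd_n hm dvd_rfl), add_zero]
    rw [pow_add, pow_one]
  -- the normal `m`-complement
  obtain ⟨x, hx⟩ := h.exM
  obtain ⟨r, hr, x', hx'r, hx'z, hx'x, hxx'⟩ := h.primary_m hx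
  obtain ⟨w, hwC, hwz, hwm⟩ : ∃ w ∈ C, w ∉ center G ∧ IsElt m w :=
    exists_noncentral (hC.part_lt h dvd_rfl)
  have hCw : cent w = C := hC.eq w hwC hwz
  obtain ⟨K, hK, -, -⟩ := h.split dvd_rfl hwm (hC.index_of_mem hwC hwz)
  rw [hCw] at hK
  haveI hKn : K.Normal := ⟨fun k hk g => by
    rw [hK] at hk ⊢
    exact ⟨hCn.conj_mem k hk.1 g,
      by rw [show g * k * g⁻¹ = MulAut.conj g k from rfl, MulEquiv.orderOf_eq]; exact hk.2⟩⟩
  have hKcop : (Nat.card K).Coprime m := by
    rw [Nat.coprime_comm, hm.coprime_iff_not_dvd]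
    intro hd
    obtain ⟨a, ha⟩ := exists_prime_orderOf_dvd_card' m hd
    exact ((hK a).1 a.2).2 (by rw [Subgroup.orderOf_coe, ha])
  have hKidx : ∃ a : ℕ, K.index = m ^ a := by
    refine ⟨_, Nat.eq_prime_pow_of_unique_prime_dvd index_ne_zero_of_finite fun {d} hd hdd => ?_⟩
    by_contra hdm
    haveI := Fact.mk hd
    obtain ⟨U, hUC, hUp, hUc⟩ := exists_le_card_cp d C
    have hfull : cp d C = cp d (⊤ : Subgroup G) :=
      cp_eq_top_iff.2 fun hdi => hdm ((Nat.prime_dvd_prime_iff_eq hd hm).1 (hC.idx ▸ hdi))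
    rw [hfull] at hUc
    refine cp_eq_top_iff.1 (le_antisymm (cp_mono le_top) (hUc ▸ card_le_cp hUp fun u hu => ?_)) hdd
    exact (hK u).2 ⟨hUC hu, IsElt.not_dvd hd hm hdm (isElt_of_mem hUp hu)⟩
  -- congruence
  have hn1 : m ∣ n - 1 := by
    obtain ⟨k, hk⟩ := isElt_of_mem P₀.2 hyP
    obtain ⟨F, hFK, hF1, hF2, hmod⟩ :=
      Transfer.card_fixed_modEq K (q := m) (y := y) (by rw [normalizer_eq_top]; exact mem_top y) hk
    have hFZ : F = K ⊓ center G := by
      ext a
      refine ⟨fun ha => ⟨hFK ha, hC.inf_cent hyC ((hK a).1 (hFK ha)).1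
          (mem_cent.2 (mul_inv_eq_iff_eq_mul.1 (hF1 a ha)).symm)⟩,
        fun ha => hF2 a ha.1 (by rw [mem_center_iff.1 ha.2 y, mul_inv_cancel_right])⟩
    obtain ⟨a, ha⟩ := hKidx
    obtain ⟨j, -, hj⟩ := (Nat.dvd_prime_pow hm).1 (ha ▸ K.relIndex_dvd_index_of_normal (center G))
    have hKle : K ≤ C := fun k hk => ((hK k).1 hk).1
    obtain ⟨i, -, hi⟩ := (Nat.dvd_prime_pow hm).1 (ha ▸ (relIndex_mul_index hKle ▸ dvd_mul_right _ _ :
      K.relIndex C ∣ K.index))
    have hcK : Nat.card C = Nat.card K * m ^ i := by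
      rw [← hi, ← card_inf_mul_relIndex K C, inf_eq_left.2 hKle]
    have hcF : Nat.card (center G) = Nat.card F * m ^ j := by
      rw [← hj, hFZ, card_inf_mul_relIndex K (center G)]
    have hcopF : (Nat.card F).Coprime m := Nat.Coprime.coprime_dvd_left (card_dvd_of_le hFK) hKcop
    have hnm : n.Coprime m := h.cop.symm
    have e : Nat.card K * m ^ i = n * Nat.card F * m ^ (j + 1) := by
      rw [← hcK, hcardC, hcF, pow_succ]; ring
    have hKeq : Nat.card K = n * Nat.card F := by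
      refine Nat.dvd_antisymm ?_ ?_
      · exact (hKcop.pow_right (j + 1)).dvd_of_dvd_mul_right (e ▸ dvd_mul_right _ _)
      · exact ((hnm.mul_left hcopF).pow_right i).dvd_of_dvd_mul_right (e.symm ▸ dvd_mul_right _ _)
    rw [hKeq] at hmod
    have h1 : n ≡ 1 [MOD m] := by
      refine Nat.ModEq.cancel_right_of_coprime (c := Nat.card F) ?_ (by rw [one_mul]; exact hmod)
      exact hcopF.symm
    exact (Nat.modEq_iff_dvd' (by have := h.hn; omega)).1 h1.symm
  refine ⟨hm, hn1, ⟨C, hCn, ?_, hC.idx, ⟨⟨fun a b => Subtype.ext (hC.comm a.2 b.2).eq⟩⟩⟩,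
    ⟨K, hKn, hKcop, hKidx⟩, fun P => ?_⟩
  · ext a
    refine ⟨fun ha => ?_, ?_⟩
    · by_cases haz : a ∈ center G
      · exact Or.inl (index_eq_one_iff.2 haz)
      · exact Or.inr (hC.index_of_mem ha haz)
    · rintro (ha | ha)
      · exact hC.zle (index_eq_one_iff.1 ha)
      · exact hC.cent_eq_of_index ha ▸ self_mem a
  · -- the derived group of a Sylow subgroup
    obtain ⟨y, hyP, hyC⟩ := hC.exists_not_mem dvd_rfl P
    set A : Subgroup (P : Subgroup G) := C.subgroupOf (P : Subgroup G) with hA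
    haveI : A.Normal := by rw [hA]; infer_instance
    haveI : IsMulCommutative A := ⟨⟨fun a b => Subtype.ext (Subtype.ext
      (hC.comm (mem_subgroupOf.1 a.2) (mem_subgroupOf.1 b.2)).eq)⟩⟩
    have hPC : (P : Subgroup G) ≤ normalizer (C : Set G) := by rw [normalizer_eq_top]; exact le_top
    have hAcard : Nat.card A = cp m C := by
      rw [hA, ← inf_subgroupOf_left, Nat.card_congr (subgroupOfEquivOfLe inf_le_left).toEquiv,
        card_inf_normalised P hPC]
    have hAidx : A.index = m := by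
      have h1 := A.card_mul_index
      rw [hAcard, hPc P, mul_comm m] at h1
      exact Nat.eq_of_mul_eq_mul_left (Nat.pow_pos hm.pos) h1
    have hgen : A ⊔ zpowers (⟨y, hyP⟩ : (P : Subgroup G)) = ⊤ := by
      refine index_eq_one.1 (((Nat.dvd_prime hm).1 ((index_dvd_of_le (le_sup_left : A ≤ A ⊔ zpowers (⟨y, hyP⟩ : (P : Subgroup G)))).trans hAidx.dvd)).resolve_right
        fun e => hyC ?_)
      have h1 : A = A ⊔ zpowers (⟨y, hyP⟩ : (P : Subgroup G)) := by
        refine eq_of_le_of_card_ge le_sup_left (le_of_eq ?_)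
        have h2 := A.card_mul_index
        rw [hAidx, ← (A ⊔ zpowers (⟨y, hyP⟩ : (P : Subgroup G))).card_mul_index, e] at h2
        exact (Nat.eq_of_mul_eq_mul_right hm.pos h2).symm
      exact mem_subgroupOf.1 (h1.ge (mem_sup_right (mem_zpowers (⟨y, hyP⟩ : (P : Subgroup G)))))
    have h3 := PGroupFour.card_commutator_mul_card_inf_centralizer A ⟨y, hyP⟩ hgen
    have h4 : A ⊓ centralizer {(⟨y, hyP⟩ : (P : Subgroup G))} =
        ((P : Subgroup G) ⊓ center G).subgroupOf (P : Subgroup G) := by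
      ext a
      simp only [hA, mem_inf, mem_subgroupOf]
      constructor
      · rintro ⟨ha, hay⟩
        exact ⟨a.2, hC.inf_cent hyC ha
          (mem_cent.2 (congrArg Subtype.val (mem_cent.1 hay)))⟩
      · rintro ⟨-, haz⟩
        exact ⟨hC.zle haz,
          mem_cent.2 (Subtype.ext (mem_center_iff.1 haz y).symm)⟩
    rw [h4, Nat.card_congr (subgroupOfEquivOfLe inf_le_left).toEquiv,
      card_inf_normalised P (by rw [normalizer_eq_top]; exact le_top), hAcard, hcpC] at h3
    exact Nat.eq_of_mul_eq_mul_right (Nat.pow_pos hm.pos) h3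

theorem Hyp.good_conclusion (h : Hyp G m n) {s : ℕ} [Fact s.Prime] (hsm : s ∣ m) {u : G}
    (hu : IsElt s u) (hum : (cent u).index = m) :
    m.Prime ∧ m ∣ n - 1 ∧
    (∃ M : Subgroup G, M.Normal ∧ (M : Set G) = {x : G | (cent x).index = 1 ∨ (cent x).index = m} ∧
      M.index = m ∧ IsMulCommutative M) ∧
    (∃ N : Subgroup G, N.Normal ∧ (Nat.card N).Coprime m ∧ ∃ a : ℕ, N.index = m ^ a) ∧
    ∀ P : Sylow m G, Nat.card (commutator (P : Subgroup G)) = m := by
  obtain ⟨C, hC⟩ := h.exists_goodC hsm hu hum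
  exact hC.conclusion h

end Cfsg.Agent.ThreeSizes
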