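import Cfsg.Agent.Lib.ThreeSizes.Split
import Cfsg.Agent.S4037

/-!
# The abelian centralizer of index `m` is normal
-/

open Subgroup
open scoped commutatorElement

namespace Cfsg.Agent.ThreeSizes

set_option linter.unusedSectionVars false

variable {G : Type*} [Group G] [Finite G] {m n : ℕ}

local notation "cent" x:max => Subgroup.centralizer ({x} : Set _)

/-- `C` has index `m`, is the centralizer of each of its non-central elements, and every
centralizer of index `m` is conjugate to it. -/
structure GoodC (G : Type*) [Group G] (m n : ℕ) (C : Subgroup G) : Prop where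
  idx : C.index = m
  zle : center G ≤ C
  eq : ∀ c ∈ C, c ∉ center G → cent c = C
  cls : ∀ x : G, (cent x).index = m → ∃ g : G, cent (g * x * g⁻¹) = C
  nconj : ∀ q : ℕ, q.Prime → q ∣ n → ∀ v : G, IsElt q v → v ∉ center G → ∃ g : G, cent (g * v * g⁻¹) = C

theorem Hyp.exists_goodC (h : Hyp G m n) {s : ℕ} [hs : Fact s.Prime] (hsm : s ∣ m) {u : G}
    (hu : IsElt s u) (hum : (cent u).index = m) : ∃ C, GoodC G m n C := by
  have heq : ∀ c ∈ cent u, c ∉ center G → cent c = cent u := fun c => h.good_eq hsm hu hum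
  have hconj : ∀ q : ℕ, q.Prime → q ∣ n → ∀ v : G, IsElt q v → v ∉ center G →
      ∃ g : G, cent (g * v * g⁻¹) = cent u := by
    intro q hq hqn v hv hvz
    haveI := Fact.mk hq
    obtain ⟨U, hUC, -, hUc⟩ := exists_le_card_cp q (cent u)
    rw [cp_eq_top_iff.2 (hum ▸ h.not_dvd_m hq hqn)] at hUc
    obtain ⟨g, hg⟩ := exists_conj_mem hUc (isPGroup_zpowers hv)
    exact ⟨g, heq _ (hUC (hg v (mem_zpowers v))) fun hh => hvz (SylowTwoSizes.conj_mem_center.1 hh)⟩
  refine ⟨cent u, hum, center_le_cent u, heq, fun x hx => ?_, hconj⟩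
  obtain ⟨r, hr, x', hx'r, hx'z, -, hxx'⟩ := h.primary_m hx
  haveI := Fact.mk hr
  suffices ∃ g : G, cent (g * x' * g⁻¹) = cent u by
    obtain ⟨g, hg⟩ := this
    exact ⟨g, by rw [cent_conj, hxx', ← cent_conj, hg]⟩
  rcases h.noncentral_prime hx'z hx'r with hrm | hrn
  · obtain ⟨q, hq, hqn⟩ := Nat.exists_prime_and_dvd (n := n) (by have := h.hn; omega)
    haveI := Fact.mk hq
    have hx'm : (cent x').index = m := hxx' ▸ hx
    obtain ⟨w, hwC, hwz, hwq⟩ := h.exists_noncentral_n (q := q) hqn
      (H := cent x') (cp_eq_top_iff.2 (hx'm ▸ h.not_dvd_m hq hqn))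
    obtain ⟨g, hg⟩ := hconj q hq hqn w hwq hwz
    exact ⟨g, by rw [cent_conj, ← h.good_eq hrm hx'r hx'm hwC hwz, ← cent_conj, hg]⟩
  · exact hconj r hr hrn x' hx'r hx'z

theorem GoodC.comm {C : Subgroup G} (hC : GoodC G m n C) {a b : G} (ha : a ∈ C) (hb : b ∈ C) :
    Commute a b := by
  by_cases haz : a ∈ center G
  · exact (mem_center_iff.1 haz b).symm
  · exact (mem_cent.1 (by rw [hC.eq a ha haz]; exact hb : b ∈ cent a)).symm

theorem GoodC.index_of_mem {C : Subgroup G} (hC : GoodC G m n C) {c : G} (hc : c ∈ C)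
    (hcz : c ∉ center G) : (cent c).index = m := by
  rw [hC.eq c hc hcz, hC.idx]

/-- The non-central elements of a minimal centralizer have minimal centralizers. -/
theorem GoodC.mn_of_mem {C : Subgroup G} (hC : GoodC G m n C) (h : Hyp G m n) {y z : G}
    (hy : (cent y).index = m * n) (hz : z ∈ cent y) (hzz : z ∉ center G) :
    (cent z).index = m * n := by
  refine (h.cases hzz).resolve_left fun e => ?_
  obtain ⟨g, hg⟩ := hC.cls z e
  have h1 : g * y * g⁻¹ ∈ C := by
    rw [← hg, cent_conj]
    exact ⟨y, mem_cent_symm hz, rfl⟩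
  have h2 := hC.index_of_mem h1 fun hh => h.noncentral_of_mn hy (SylowTwoSizes.conj_mem_center.1 hh)
  rw [index_conj, hy] at h2
  exact h.ne_mn h2.symm

/-- The `q`-elements in the centre of a minimal centralizer: all of them, for a coprime `q`. -/
theorem GoodC.sylow_zPart {C : Subgroup G} (hC : GoodC G m n C) (h : Hyp G m n) {q : ℕ}
    [hq : Fact q.Prime] {v : G} (hv : (cent v).index = m * n) (hvq : ¬ q ∣ orderOf v) {t : G}
    (ht : t ∈ cent v) (htq : IsElt q t) : t ∈ zPart q (cent v) := by
  refine mem_zPart.2 ⟨ht, mem_centralizer_iff.2 fun g hg => ?_, htq⟩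
  by_cases htz : t ∈ center G
  · exact mem_center_iff.1 htz g
  · have e := h.cent_eq_of_coprime hv (hC.mn_of_mem h hv ht htz) ht
      (IsElt.coprime_order hq.out htq hvq).symm
    exact mem_cent.1 (e ▸ hg : g ∈ cent t)

theorem card_sylow_eq_mul {s : ℕ} [hs : Fact s.Prime] {U : Subgroup G} (hU : IsPGroup s U)
    (hc : cp s (⊤ : Subgroup G) = s * Nat.card U) :
    ∃ P : Sylow s G, U ≤ P ∧ (P : Subgroup G) ≤ normalizer (U : Set G) := by
  obtain ⟨P, hP⟩ := hU.exists_le_sylow
  refine ⟨P, hP, ?_⟩
  haveI : (U.subgroupOf (P : Subgroup G)).Normal := by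
    refine Subgroup.normal_of_index_eq_minFac_card ?_
    have h1 := (U.subgroupOf (P : Subgroup G)).card_mul_index
    rw [Nat.card_congr (subgroupOfEquivOfLe hP).toEquiv, card_sylow P, hc, mul_comm s] at h1
    rw [Nat.eq_of_mul_eq_mul_left Nat.card_pos h1]
    obtain ⟨k, hk⟩ := IsPGroup.iff_card.1 P.2
    rw [hk, Nat.Prime.pow_minFac hs.out]
    rintro rfl
    rw [pow_zero] at hk
    have h2 := card_sylow P
    rw [hk, hc] at h2
    exact hs.out.ne_one (Nat.eq_one_of_mul_eq_one_right h2.symm)
  exact Subgroup.le_normalizer_of_normal_subgroupOf hP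

theorem GoodC.normal {C : Subgroup G} (hC : GoodC G m n C) (h : Hyp G m n) : C.Normal := by
  obtain ⟨s₀, hs₀, hs₀m⟩ := Nat.exists_prime_and_dvd (n := m) (by have := h.hm; omega)
  by_cases hall : ∀ r : ℕ, r.Prime → r ∣ m → r = s₀
  · -- `m` is a power of `s₀`: solvable normal closure of a `q`-element
    haveI := Fact.mk hs₀
    obtain ⟨q, hq, hqn⟩ := Nat.exists_prime_and_dvd (n := n) (by have := h.hn; omega)
    haveI := Fact.mk hq
    have hqs : q ≠ s₀ := fun e => h.not_dvd_n hs₀ hs₀m (e ▸ hqn)
    obtain ⟨t, htC, htz, htq⟩ := h.exists_noncentral_n (q := q) hqn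
      (H := C) (cp_eq_top_iff.2 (hC.idx ▸ h.not_dvd_m hq hqn))
    have hsol : Group.IsSolvable ↥(normalClosure ({t} : Set G)) := by
      refine S4037.result t hs₀ m.primeFactorsList.length ?_
      rw [← Nat.card_coe_set_eq, ClassIndex.natCard_carrier_eq_index, hC.index_of_mem htC htz]
      exact Nat.eq_prime_pow_of_unique_prime_dvd (by have := h.hm0; omega) (fun {d} hd hdm => hall d hd hdm)
    set N := normalClosure ({t} : Set G) with hN
    let E : ℕ → Subgroup G := fun i => (derivedSeries N i).map N.subtype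
    have hE : ∃ i, E i ≤ center G := by
      obtain ⟨i, hi⟩ := hsol.solvable
      exact ⟨i, by simp only [E, hi, Subgroup.map_bot, bot_le]⟩
    classical
    obtain ⟨i, hi⟩ : ∃ i, Nat.find hE = i + 1 := by
      refine Nat.exists_eq_succ_of_ne_zero fun e => htz ?_
      have h0 := Nat.find_spec hE
      rw [e] at h0
      exact h0 (by simp only [E, derivedSeries_zero, ← MonoidHom.range_eq_map, range_subtype]
                   exact subset_normalClosure (Set.mem_singleton t))
    set D := E i with hD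
    haveI : D.Normal := by rw [hD]; infer_instance
    have hDz : ¬ D ≤ center G := Nat.find_min hE (by omega)
    have hDD : ⁅D, D⁆ ≤ center G := by
      have h1 := Nat.find_spec hE
      rw [hi] at h1
      simpa only [E, hD, derivedSeries_succ, Subgroup.map_commutator] using h1
    -- a noncentral primary element of `D`
    obtain ⟨a₁, ha₁, ha₁z⟩ := SetLike.not_le_iff_exists.1 hDz
    obtain ⟨r, hr, a₀, ha₀, ha₀z, ha₀r⟩ := exists_primary ha₁z
    haveI := Fact.mk hr
    have hDn : Group.IsNilpotent D := by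
      refine Group.of_quotient_center_nilpotent ?_
      letI : CommGroup (D ⧸ center D) :=
        { (inferInstance : Group (D ⧸ center D)) with
          mul_comm := fun x y => by
            induction x using QuotientGroup.induction_on with | H x => ?_
            induction y using QuotientGroup.induction_on with | H y => ?_
            rw [← QuotientGroup.mk_mul, ← QuotientGroup.mk_mul, QuotientGroup.eq, mem_center_iff]
            intro g
            refine Subtype.ext ?_
            have hz : ((x : G) * y)⁻¹ * (y * x) ∈ center G := by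
              have hh := hDD (commutator_mem_commutator (D.inv_mem y.2) (D.inv_mem x.2))
              rw [commutatorElement_def, inv_inv, inv_inv] at hh
              simpa [mul_assoc] using hh
            simpa using mem_center_iff.1 hz (g : G) }
      infer_instance
    obtain ⟨R⟩ : Nonempty (Sylow r D) := inferInstance
    haveI : (R : Subgroup D).Characteristic :=
      Sylow.characteristic_of_normal R (Sylow.normal_of_normalizerCondition Group.normalizerCondition_of_isNilpotent R)
    set A := (R : Subgroup D).map D.subtype with hA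
    haveI hAn : A.Normal := by rw [hA]; infer_instance
    have hAp : IsPGroup r A := R.2.map _
    have ha₀A : a₀ ∈ A := by
      refine ⟨⟨a₀, zpowers_le.2 ha₁ ha₀⟩, ?_, rfl⟩
      haveI : (R : Subgroup D).Normal := inferInstance
      refine Coprime.mem_of_pow_mem (n := (R : Subgroup D).index) ?_ (Subgroup.pow_index_mem _ _)
      rw [Subgroup.orderOf_mk]
      exact IsElt.coprime_order hr ha₀r R.not_dvd_index
    suffices hAC : A ≤ C by
      refine ⟨fun c hc g => (mem_normalizer_iff.1 ?_ c).1 hc⟩
      exact normalizer_of_fix (hC.eq a₀ (hAC ha₀A) ha₀z)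
        (hC.eq _ (hAC (hAn.conj_mem a₀ ha₀A g)) fun hh => ha₀z (SylowTwoSizes.conj_mem_center.1 hh))
    by_cases hrm : r ∣ m
    · obtain rfl : r = s₀ := hall r hr hrm
      obtain ⟨x, hx⟩ := h.exM
      obtain ⟨u, huC, huz, hus⟩ := exists_noncentral (q := r) (H := C) (by
        rw [← hC.eq t htC htz]; exact h.part_lt hrm htz)
      have hP : IsPGroup r ↥(A ⊔ zpowers u) := hAp.to_sup_of_normal_left (isPGroup_zpowers hus)
      obtain ⟨a, haA, haz, -, hacomm⟩ := exists_z2 hP le_sup_left
        (by rw [normalizer_eq_top]; exact le_top) fun hle => ha₀z (hle ha₀A)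
      -- an element of `A` normalising `C` lies in `C`
      have key : ∀ b ∈ A, b ∈ normalizer (C : Set G) → b ∈ C := by
        intro b hb hbn
        rw [← hC.eq t htC htz, mem_cent, ← commutatorElement_eq_one_iff_mul_comm, commutatorElement_def]
        have h1 : b * t * b⁻¹ ∈ C := (mem_normalizer_iff.1 hbn t).1 htC
        obtain ⟨i, hi⟩ := htq
        have hc : Commute (b * t * b⁻¹) t⁻¹ := hC.comm h1 (C.inv_mem htC)
        have h2 : orderOf (b * t * b⁻¹ * t⁻¹) ∣ q ^ i * q ^ i := by
          refine hc.orderOf_mul_dvd_mul_orderOf.trans ?_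
          rw [orderOf_inv, show b * t * b⁻¹ = MulAut.conj b t from rfl, MulEquiv.orderOf_eq, hi]
        have h3 : b * t * b⁻¹ * t⁻¹ ∈ A := by
          rw [show b * t * b⁻¹ * t⁻¹ = b * (t * b⁻¹ * t⁻¹) by group]
          exact A.mul_mem hb (hAn.conj_mem _ (A.inv_mem hb) t)
        obtain ⟨j, hj⟩ := isElt_of_mem hAp h3
        rw [← orderOf_eq_one_iff]
        rw [hj] at h2 ⊢
        have hco : (r ^ j).Coprime (q ^ i * q ^ i) :=
          Nat.Coprime.mul_right (((Nat.coprime_primes hr hq).2 hqs.symm).pow j i)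
            (((Nat.coprime_primes hr hq).2 hqs.symm).pow j i)
        exact Nat.Coprime.eq_one_of_dvd hco h2
      have hau : ⁅a, u⁆ ∈ center G := by
        rw [← commutatorElement_inv u a]
        exact inv_mem (hacomm u (mem_sup_right (mem_zpowers u)))
      have haC : a ∈ C := key a haA (hC.eq u huC huz ▸ normalizer_of_mod hau)
      exact fun b hb => key b hb (hC.eq a haC haz ▸ normalizer_of_mod (hacomm b (mem_sup_left hb)))
    · obtain ⟨U, hUC, -, hUc⟩ := exists_le_card_cp r C
      rw [cp_eq_top_iff.2 (hC.idx ▸ hrm)] at hUc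
      obtain ⟨g, hg⟩ := exists_conj_mem hUc hAp
      intro x hx
      have := hg _ (hAn.conj_mem x hx g⁻¹)
      exact hUC (by simpa [mul_assoc] using this)
  · push Not at hall
    obtain ⟨s₁, hs₁, hs₁m, hne⟩ := hall
    suffices ∀ s : ℕ, s.Prime → s ∣ m → ¬ s ∣ (normalizer (C : Set G)).index by
      rw [← normalizer_eq_top_iff, ← index_eq_one]
      by_contra hi
      obtain ⟨r, hr, hrd⟩ := Nat.exists_prime_and_dvd hi
      exact this r hr (hC.idx ▸ hrd.trans (index_dvd_of_le le_normalizer)) hrd
    intro s hs hsm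
    haveI := Fact.mk hs
    obtain ⟨s', hs', hs'm, hss⟩ : ∃ s', s'.Prime ∧ s' ∣ m ∧ s' ≠ s := by
      by_cases e : s₀ = s
      · exact ⟨s₁, hs₁, hs₁m, e ▸ hne⟩
      · exact ⟨s₀, hs₀, hs₀m, e⟩
    haveI := Fact.mk hs'
    suffices ∃ P : Sylow s G, ∃ g : G, ∀ x ∈ (P : Subgroup G), g * x * g⁻¹ ∈ normalizer (C : Set G) by
      obtain ⟨P, g, hg⟩ := this
      have hle : ((g • P : Sylow s G) : Subgroup G) ≤ normalizer (C : Set G) := by
        rintro _ ⟨x, hx, rfl⟩; exact hg x hx
      exact fun hd => (g • P).not_dvd_index (hd.trans (index_dvd_of_le hle))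
    obtain ⟨P⟩ : Nonempty (Sylow s G) := inferInstance
    obtain ⟨x₀, hx₀⟩ := h.exM
    obtain ⟨v₀, hv₀z, hv₀⟩ := exists_noncentral_of_dvd (q := s) (g := x₀) (hx₀ ▸ hsm)
    have hPz : ¬ (P : Subgroup G) ≤ center G := fun hle => by
      obtain ⟨g, hg⟩ := exists_conj_mem (card_sylow P) (isPGroup_zpowers hv₀)
      exact hv₀z (SylowTwoSizes.conj_mem_center.1 (hle (hg v₀ (mem_zpowers v₀))))
    obtain ⟨v, hvP, hvz, hvs, hcomm⟩ := exists_z2 P.2 le_rfl le_normalizer hPz
    have hPn : (P : Subgroup G) ≤ normalizer ((cent v : Subgroup G) : Set G) :=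
      fun g hg => normalizer_of_mod (hcomm g hg)
    rcases h.cases hvz with hvi | hvi
    · obtain ⟨g, hg⟩ := hC.cls v hvi
      refine ⟨P, g, fun x hx => ?_⟩
      rw [← hg]
      refine normalizer_of_mod ?_
      rw [show ⁅g * x * g⁻¹, g * v * g⁻¹⁆ = g * ⁅x, v⁆ * g⁻¹ by
        simp only [commutatorElement_def]; group]
      exact (inferInstance : (center G).Normal).conj_mem _ (hcomm x hx) g
    · haveI := isMulCommutative_zPart s' (cent v)
      have hvs' : ¬ s' ∣ orderOf v := IsElt.not_dvd hs hs' hss.symm (isElt_of_mem P.2 hvP)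
      have hcard : Nat.card P = s * Nat.card ↥((P : Subgroup G) ⊓ cent v) := by
        refine relIndex_eq_prime P.2 (T := zPart s' (cent v)) hvs hcomm ?_
          (zPart_normalizer s' hPn) (fun g hg t ht => ?_) (fun t ht => ?_) ?_ ?_
        · intro hle
          exact P.not_dvd_index ((hvi ▸ hsm.mul_right n : s ∣ (cent v).index).trans (index_dvd_of_le hle))
        · exact mem_centralizer_iff.1 (mem_zPart.1 ht).2.1 g hg.2
        · exact IsElt.not_dvd hs' hs hss (mem_zPart.1 ht).2.2
        · intro g _ hgv t ht hgt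
          by_contra htz
          refine hgv ?_
          rw [h.cent_eq_of_coprime hvi (hC.mn_of_mem h hvi ht.1 htz) ht.1
            (IsElt.coprime_order hs' (mem_zPart.1 ht).2.2 hvs').symm]
          exact mem_cent.2 hgt.eq
        · intro hle
          obtain ⟨t, htv, htz, hts⟩ := exists_noncentral (h.part_lt (s := s') hs'm hvz)
          exact htz (hle (hC.sylow_zPart h hvi hvs' htv hts))
      obtain ⟨x, hx⟩ := h.exM
      obtain ⟨g₀, hg₀⟩ := hC.cls x hx
      have hcC : cp s (cent v) = cp s C := by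
        rw [← hg₀]
        exact h.part_const hs hsm hvz fun hh => h.noncentral_of_m hx (SylowTwoSizes.conj_mem_center.1 hh)
      rw [card_sylow P, card_inf_normalised P hPn, hcC] at hcard
      obtain ⟨U, hUC, hUp, hUc⟩ := exists_le_card_cp s C
      rw [← hUc] at hcard
      obtain ⟨P₁, hUP₁, hP₁n⟩ := card_sylow_eq_mul hUp hcard
      obtain ⟨u', hu', hu'z⟩ : ∃ u' ∈ U, u' ∉ center G := by
        refine SetLike.not_le_iff_exists.1 fun hle => ?_
        have h1 := card_le_cp hUp hle
        rw [hUc, ← hcC] at h1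
        have h2 := h.part_lt (s := s) hsm hvz
        omega
      refine ⟨P₁, 1, fun g hg => ?_⟩
      rw [one_mul, inv_one, mul_one]
      exact normalizer_of_fix (hC.eq u' (hUC hu') hu'z)
        (hC.eq _ (hUC ((mem_normalizer_iff.1 (hP₁n hg) u').1 hu'))
          fun hh => hu'z (SylowTwoSizes.conj_mem_center.1 hh))

end Cfsg.Agent.ThreeSizes
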